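/-
Small elementary lemmas: covering by conjugates, primary decomposition of an element, inverters.
-/
import Mathlib.GroupTheory.Sylow
import Mathlib.GroupTheory.OrderOfElement
import Mathlib.GroupTheory.GroupAction.ConjAct
import Mathlib.Data.Nat.Factorization.Basic

set_option autoImplicit false
set_option linter.style.haveILetI false

namespace Cfsg.Agent.Lib.Elem70

variable {G : Type*} [Group G]

/-- A finite group is not covered by the conjugates of a proper subgroup. -/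
theorem eq_top_of_forall_conj [Finite G] (H : Subgroup G) (h : ∀ g : G, ∃ c : G, c⁻¹ * g * c ∈ H) :
    H = ⊤ := by
  classical
  haveI := Fintype.ofFinite G
  haveI : Fintype (G ⧸ H) := Fintype.ofFinite _
  let U : Finset G := Finset.univ.biUnion fun q : G ⧸ H =>
    (Finset.univ.filter fun x : G => x ∈ H ∧ x ≠ 1).image fun x => q.out * x * q.out⁻¹
  have hU : Finset.univ.erase (1 : G) ⊆ U := by
    intro g hg
    obtain ⟨c, hc⟩ := h g
    obtain ⟨k, hk⟩ := QuotientGroup.mk_out_eq_mul H c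
    refine Finset.mem_biUnion.2 ⟨(c : G ⧸ H), Finset.mem_univ _, ?_⟩
    refine Finset.mem_image.2 ⟨(k : G)⁻¹ * (c⁻¹ * g * c) * k, Finset.mem_filter.2 ⟨Finset.mem_univ _,
      H.mul_mem (H.mul_mem (H.inv_mem k.2) hc) k.2, ?_⟩, by rw [hk]; group⟩
    intro he
    apply (Finset.mem_erase.1 hg).1
    have : c⁻¹ * g * c = 1 := by
      have h1 := congrArg (fun z => (k : G) * z * (k : G)⁻¹) he
      simpa [mul_assoc] using h1
    have h1 := congrArg (fun z => c * z * c⁻¹) this
    simpa [mul_assoc] using h1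
  have h1 : Nat.card G - 1 ≤ H.index * (Nat.card H - 1) := by
    calc Nat.card G - 1 = (Finset.univ.erase (1 : G)).card := by
          rw [Finset.card_erase_of_mem (Finset.mem_univ _), Finset.card_univ, Nat.card_eq_fintype_card]
      _ ≤ U.card := Finset.card_le_card hU
      _ ≤ Fintype.card (G ⧸ H) * (Nat.card H - 1) := by
          refine Finset.card_biUnion_le.trans ((Finset.sum_le_card_nsmul _ _ _ fun q _ => ?_).trans
            (le_of_eq (smul_eq_mul _ _)))
          refine Finset.card_image_le.trans (le_of_eq ?_)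
          rw [Nat.card_eq_fintype_card, Fintype.card_subtype,
            ← Finset.card_erase_of_mem (s := Finset.univ.filter fun x : G => x ∈ H) (a := 1)
              (Finset.mem_filter.2 ⟨Finset.mem_univ _, H.one_mem⟩)]
          congr 1
          ext x
          simp [and_comm]
      _ = H.index * (Nat.card H - 1) := by rw [Subgroup.index, Nat.card_eq_fintype_card (α := G ⧸ H)]
  rw [← H.card_mul_index, Nat.mul_sub_one, mul_comm (Nat.card H)] at h1
  have hle : H.index ≤ H.index * Nat.card H := Nat.le_mul_of_pos_right _ Nat.card_pos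
  have hidx : H.index = 1 := by
    have := Nat.pos_of_ne_zero (H.index_ne_zero_of_finite)
    omega
  exact Subgroup.index_eq_one.1 hidx

/-- Every element is the product of commuting powers of itself of `p`-power and of `p'`-order. -/
theorem exists_primary_split [Finite G] {p : ℕ} (hp : p.Prime) (g : G) :
    ∃ u s : G, u ∈ Subgroup.zpowers g ∧ s ∈ Subgroup.zpowers g ∧ g = u * s ∧
      (∃ k : ℕ, u ^ p ^ k = 1) ∧ (orderOf s).Coprime p := by
  obtain ⟨k, m, hm, hn⟩ := Nat.exists_eq_pow_mul_and_not_dvd (orderOf_pos g).ne' p hp.ne_one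
  have hcop : (p ^ k).Coprime m := Nat.Coprime.pow_left k (hp.coprime_iff_not_dvd.2 hm)
  have hb : ((p ^ k : ℕ) : ℤ) * (p ^ k).gcdA m + (m : ℤ) * (p ^ k).gcdB m = 1 := by
    rw [← Nat.gcd_eq_gcd_ab, hcop.gcd_eq_one]; rfl
  have hg : g ^ ((p ^ k * m : ℕ) : ℤ) = 1 := by
    rw [zpow_natCast, ← hn, pow_orderOf_eq_one]
  refine ⟨g ^ ((m : ℤ) * (p ^ k).gcdB m), g ^ (((p ^ k : ℕ) : ℤ) * (p ^ k).gcdA m),
    ⟨_, rfl⟩, ⟨_, rfl⟩, ?_, ⟨k, ?_⟩, ?_⟩
  · rw [← zpow_add, add_comm, hb, zpow_one]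
  · rw [← zpow_natCast, ← zpow_mul, show (m : ℤ) * (p ^ k).gcdB m * ((p ^ k : ℕ) : ℤ)
      = ((p ^ k * m : ℕ) : ℤ) * (p ^ k).gcdB m by push_cast; ring, zpow_mul, hg, one_zpow]
  · refine Nat.Coprime.coprime_dvd_left (orderOf_dvd_of_pow_eq_one (n := m) ?_)
      (hp.coprime_iff_not_dvd.2 hm).symm
    rw [← zpow_natCast, ← zpow_mul, show ((p ^ k : ℕ) : ℤ) * (p ^ k).gcdA m * (m : ℤ)
      = ((p ^ k * m : ℕ) : ℤ) * (p ^ k).gcdA m by push_cast; ring, zpow_mul, hg, one_zpow]

theorem orderOf_eq_pow_of_pow_eq_one {p : ℕ} (hp : p.Prime) {u : G} {k : ℕ} (h : u ^ p ^ k = 1) :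
    ∃ j : ℕ, orderOf u = p ^ j := by
  obtain ⟨j, -, hj⟩ := (Nat.dvd_prime_pow hp).1 (orderOf_dvd_of_pow_eq_one h)
  exact ⟨j, hj⟩

/-- Conjugation by `g` inverts `x`, hence so does every odd power. -/
theorem invert_odd_pow {g x : G} (h : g * x * g⁻¹ = x⁻¹) :
    ∀ n : ℕ, g ^ (2 * n + 1) * x * (g ^ (2 * n + 1))⁻¹ = x⁻¹ := by
  intro n
  induction n with
  | zero => simpa using h
  | succ n ih =>
    have h2 : g * x⁻¹ * g⁻¹ = x := by
      have := congrArg (·⁻¹) h
      simpa [mul_assoc] using this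
    calc g ^ (2 * (n + 1) + 1) * x * (g ^ (2 * (n + 1) + 1))⁻¹
        = g * (g * (g ^ (2 * n + 1) * x * (g ^ (2 * n + 1))⁻¹) * g⁻¹) * g⁻¹ := by
          rw [show 2 * (n + 1) + 1 = (2 * n + 1) + 1 + 1 by ring, pow_succ' g (2 * n + 1 + 1),
            pow_succ' g (2 * n + 1)]
          group
      _ = x⁻¹ := by rw [ih, h2, h]

/-- A real element is inverted by a `2`-element. -/
theorem exists_two_inverter [Finite G] {g x : G} (h : g * x * g⁻¹ = x⁻¹) :
    ∃ t : G, (∃ k : ℕ, t ^ 2 ^ k = 1) ∧ t * x * t⁻¹ = x⁻¹ := by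
  obtain ⟨k, m, hm, hn⟩ := Nat.exists_eq_pow_mul_and_not_dvd (orderOf_pos g).ne' 2 (by norm_num)
  obtain ⟨j, rfl⟩ : ∃ j, m = 2 * j + 1 := ⟨m / 2, by omega⟩
  refine ⟨g ^ (2 * j + 1), ⟨k, ?_⟩, invert_odd_pow h j⟩
  rw [← pow_mul, mul_comm, ← hn, pow_orderOf_eq_one]

/-- A real element centralising a Sylow `2`-subgroup squares to `1`. -/
theorem sq_eq_one_of_real_of_centralizes [Finite G] (S : Sylow 2 G) {x : G}
    (hx : x ∈ Subgroup.centralizer ((S : Subgroup G) : Set G)) (hreal : IsConj x x⁻¹) :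
    x ^ 2 = 1 := by
  haveI : Fact (Nat.Prime 2) := ⟨Nat.prime_two⟩
  obtain ⟨g, hg⟩ := isConj_iff.1 hreal
  obtain ⟨t, ⟨k, hk⟩, ht⟩ := exists_two_inverter hg
  -- `X` is the set of elements sending `x` to `x` or to its inverse
  let C : Subgroup G := Subgroup.centralizer {x}
  let X : Subgroup G :=
    { carrier := {c | c * x * c⁻¹ = x ∨ c * x * c⁻¹ = x⁻¹}
      one_mem' := Or.inl (by simp)
      mul_mem' := by
        intro a b ha hb
        have e : a * b * x * (a * b)⁻¹ = a * (b * x * b⁻¹) * a⁻¹ := by group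
        have e2 : a * x⁻¹ * a⁻¹ = (a * x * a⁻¹)⁻¹ := by group
        rcases hb with hb | hb <;> rcases ha with ha | ha <;>
          simp only [Set.mem_ofPred_eq, e, hb, e2, ha, inv_inv, true_or, or_true]
      inv_mem' := by
        intro a ha
        have e : ∀ y, a * x * a⁻¹ = y → a⁻¹ * y * (a⁻¹)⁻¹ = x := fun y hy => by rw [← hy]; group
        rcases ha with ha | ha
        · exact Or.inl (e _ ha)
        · refine Or.inr ?_
          have := congrArg (·⁻¹) (e _ ha)
          simpa [mul_assoc] using this }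
  have hSX : (S : Subgroup G) ≤ X := fun s hs => Or.inl (by
    rw [Subgroup.mem_centralizer_iff.1 hx s hs, mul_inv_cancel_right])
  obtain ⟨j, hj⟩ := orderOf_eq_pow_of_pow_eq_one Nat.prime_two
    (show (⟨t, Or.inr ht⟩ : X) ^ 2 ^ k = 1 from Subtype.ext hk)
  obtain ⟨Q, hQ⟩ := (IsPGroup.of_card (n := j) ((Nat.card_zpowers _).trans hj)).exists_le_sylow
  obtain ⟨c, hc⟩ := MulAction.exists_smul_eq X (S.subtype hSX) Q
  have htQ : (⟨t, Or.inr ht⟩ : X) ∈ ((c • S.subtype hSX : Sylow 2 X) : Subgroup X) := by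
    rw [hc]; exact hQ (Subgroup.mem_zpowers _)
  rw [Sylow.coe_subgroup_smul] at htQ
  obtain ⟨s, hs, hst⟩ := htQ
  have hst' : (c : G) * s * (c : G)⁻¹ = t := congrArg Subtype.val hst
  have hsc : (s : G) * x * (s : G)⁻¹ = x := by
    rw [Subgroup.mem_centralizer_iff.1 hx s hs, mul_inv_cancel_right]
  have hsc' : (s : G) * x⁻¹ * (s : G)⁻¹ = x⁻¹ := by
    conv_rhs => rw [← hsc]
    group
  have htx : t * x * t⁻¹ = x := by
    rw [← hst']
    have e : (c : G) * s * (c : G)⁻¹ * x * ((c : G) * s * (c : G)⁻¹)⁻¹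
        = (c : G) * ((s : G) * ((c : G)⁻¹ * x * (c : G)) * (s : G)⁻¹) * (c : G)⁻¹ := by group
    rw [e]
    rcases c.2 with hcx | hcx
    · have hcx' : (c : G)⁻¹ * x * (c : G) = x :=
        calc (c : G)⁻¹ * x * c = (c : G)⁻¹ * ((c : G) * x * (c : G)⁻¹) * c := by rw [hcx]
          _ = x := by group
      rw [hcx', hsc]; exact hcx
    · have hcx' : (c : G)⁻¹ * x * (c : G) = x⁻¹ := by
        have : (c : G) * x⁻¹ * (c : G)⁻¹ = x := by
          have := congrArg (·⁻¹) hcx
          simpa [mul_assoc] using this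
        calc (c : G)⁻¹ * x * c = (c : G)⁻¹ * ((c : G) * x⁻¹ * (c : G)⁻¹) * c := by rw [this]
          _ = x⁻¹ := by group
      rw [hcx', hsc']
      have := congrArg (·⁻¹) hcx
      simpa [mul_assoc] using this
  rw [htx] at ht
  rw [pow_two]
  exact mul_eq_one_iff_eq_inv.2 ht

end Cfsg.Agent.Lib.Elem70
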