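import Cfsg.Prelude.Def_EvenTechniques
import Cfsg.Agent.Lib.PGroups.Frattini
import Mathlib

/-!
Elementary abelian subgroups of p-groups of class two: the rank bound from greedy growth.
-/

set_option autoImplicit false

namespace Cfsg.Agent.Lib.Elem70.ClassTwoRank

open scoped commutatorElement

variable {P : Type*} [Group P] [Finite P] {p : ℕ} [hp : Fact p.Prime]

omit [Finite P] in
theorem commutator_mem_center [Group.IsNilpotent P] (hcl : Group.nilpotencyClass P ≤ 2) (a b : P) :
    ⁅a, b⁆ ∈ Subgroup.center P := by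
  have h2 := (Subgroup.lowerCentralSeries_eq_bot_iff_nilpotencyClass_le (G := P)).mpr hcl
  rw [Subgroup.mem_center_iff]
  intro g
  have : ⁅⁅a, b⁆, g⁆ ∈ (⊤ : Subgroup P).lowerCentralSeries 2 :=
    Subgroup.commutator_mem_commutator
      (Subgroup.commutator_mem_commutator (Subgroup.mem_top a) (Subgroup.mem_top b)) (Subgroup.mem_top g)
  rw [h2, Subgroup.mem_bot, commutatorElement_eq_one_iff_mul_comm] at this
  exact this.symm

theorem pRank_bdd : BddAbove {k : ℕ | Cfsg.PRankAtLeast p k P} := by
  refine ⟨Nat.card P, ?_⟩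
  rintro k ⟨A, -, -, hA⟩
  exact (Nat.lt_pow_self hp.out.one_lt).le.trans (hA.trans (Subgroup.card_le_card_group A))

theorem le_pRank {A : Subgroup P} (hc : ∀ a ∈ A, ∀ b ∈ A, a * b = b * a)
    (he : ∀ a ∈ A, a ^ p = 1) {k : ℕ} (hk : p ^ k ≤ Nat.card A) : k ≤ Cfsg.pRank p P :=
  le_csSup pRank_bdd ⟨A, ⟨⟨fun a b => Subtype.ext (hc _ a.2 _ b.2)⟩⟩, he, hk⟩

theorem pRank_eq_of_card (hc : ∀ a b : P, a * b = b * a) (he : ∀ a : P, a ^ p = 1) {k : ℕ}
    (hk : Nat.card P = p ^ k) : Cfsg.pRank p P = k := by
  refine le_antisymm (csSup_le' ?_) (le_pRank (A := ⊤) (fun a _ b _ => hc a b) (fun a _ => he a)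
    (by rw [Subgroup.card_top, hk]))
  rintro j ⟨A, -, -, hA⟩
  have := hA.trans (Subgroup.card_le_card_group A)
  rw [hk] at this
  exact (Nat.pow_le_pow_iff_right hp.out.one_lt).mp this

/-- Greedy growth of an elementary abelian subgroup over a central subgroup `F` containing all
commutators. -/
theorem grow (F : Subgroup P) (hFc : F ≤ Subgroup.center P)
    (hFe : ∀ a ∈ F, a ^ p = 1) (hPF : ∀ a b : P, ⁅a, b⁆ ∈ F) {l d r : ℕ}
    (hl : Nat.card F = p ^ l) (hd : Nat.card P = p ^ (l + d))
    (hext : ∀ A : Subgroup P, F ≤ A → (∀ a ∈ A, ∀ b ∈ A, a * b = b * a) → (∀ a ∈ A, a ^ p = 1) →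
      p ^ r * Nat.card A < Nat.card (Subgroup.centralizer (A : Set P)) →
      ∃ x ∈ Subgroup.centralizer (A : Set P), x ∉ A ∧ x ^ p = 1) :
    ∀ m : ℕ, (m = 0 ∨ (m - 1) * (l + 1) + r < d) →
      ∃ A : Subgroup P, F ≤ A ∧ (∀ a ∈ A, ∀ b ∈ A, a * b = b * a) ∧ (∀ a ∈ A, a ^ p = 1) ∧
        Nat.card A = p ^ (l + m) ∧
        p ^ (l + d) ≤ Nat.card (Subgroup.centralizer (A : Set P)) * p ^ (l * m) := by
  intro m
  induction m with
  | zero =>
    intro _
    refine ⟨F, le_rfl, fun a _ b hb => Subgroup.mem_center_iff.mp (hFc hb) a, hFe, by simpa using hl, ?_⟩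
    rw [Subgroup.centralizer_eq_top_iff_subset.mpr (by exact_mod_cast hFc), Subgroup.card_top, hd]
    simp
  | succ m ih =>
    intro h
    have h' : m * (l + 1) + r < d := by simpa using h
    obtain ⟨A, hFA, hAc, hAe, hAcard, hC⟩ := ih (by
      rcases m with - | m
      · exact Or.inl rfl
      · right
        rw [Nat.add_sub_cancel]
        have : m * (l + 1) ≤ (m + 1) * (l + 1) := Nat.mul_le_mul_right _ (Nat.le_succ m)
        omega)
    have hbig : p ^ r * Nat.card A < Nat.card (Subgroup.centralizer (A : Set P)) := by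
      by_contra hcon
      push Not at hcon
      have h1 := hC.trans (Nat.mul_le_mul_right _ hcon)
      rw [hAcard, ← pow_add, ← pow_add, Nat.pow_le_pow_iff_right hp.out.one_lt] at h1
      have : m * (l + 1) = l * m + m := by ring
      omega
    obtain ⟨x, hxC, hxA, hxp⟩ := hext A hFA hAc hAe hbig
    have hA : Cfsg.IsElementaryAbelian p A := PGroups.elemAb_mk hAc hAe
    have hB : Cfsg.IsElementaryAbelian p (A ⊔ Subgroup.zpowers x) := by
      refine PGroups.elemAb_sup hA (PGroups.elemAb_zpowers hxp) ?_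
      rintro a ha _ ⟨i, rfl⟩
      exact ((Commute.zpow_right (Subgroup.mem_centralizer_iff.mp hxC a ha) i)).eq
    have hnA : (A.subgroupOf (A ⊔ Subgroup.zpowers x)).Normal := ⟨fun a ha g => by
      rw [Subgroup.mem_subgroupOf] at ha ⊢
      push_cast
      rwa [PGroups.elemAb_comm hB g.2 (Subgroup.mem_sup_left ha), mul_inv_cancel_right]⟩
    have hcardB : Nat.card (A ⊔ Subgroup.zpowers x : Subgroup P) = p ^ (l + (m + 1)) := by
      have hord : orderOf x = p := orderOf_eq_prime hxp (fun h => hxA (h ▸ A.one_mem))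
      have hdisj : Disjoint A (Subgroup.zpowers x) := by
        rw [disjoint_iff]
        refine (Subgroup.eq_bot_iff_forall _).mpr fun a ha => ?_
        by_contra ha1
        haveI : Fact (Nat.card (Subgroup.zpowers x)).Prime := ⟨by rw [Nat.card_zpowers, hord]; exact hp.out⟩
        have : (Subgroup.zpowers a).subgroupOf (Subgroup.zpowers x) = ⊤ :=
          (Subgroup.eq_bot_or_eq_top_of_prime_card _).resolve_left (by
            intro h
            apply ha1
            have hmem : (⟨a, ha.2⟩ : Subgroup.zpowers x) ∈ (Subgroup.zpowers a).subgroupOf (Subgroup.zpowers x) :=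
              Subgroup.mem_zpowers a
            rw [h, Subgroup.mem_bot] at hmem
            exact congrArg Subtype.val hmem)
        exact hxA ((Subgroup.zpowers_le.mpr ha.1) (Subgroup.subgroupOf_eq_top.mp this (Subgroup.mem_zpowers x)))
      set f := MonoidHom.noncommCoprod A.subtype (Subgroup.zpowers x).subtype
        (fun a b => (show Commute (A.subtype a) ((Subgroup.zpowers x).subtype b) from PGroups.elemAb_comm hB (a := (a : P)) (b := (b : P)) (Subgroup.mem_sup_left a.2) (Subgroup.mem_sup_right b.2))) with hfdef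
      have hr : f.range = A ⊔ Subgroup.zpowers x := by
        erw [hfdef, MonoidHom.noncommCoprod_range];
        rw [ Subgroup.range_subtype, Subgroup.range_subtype]
      have hf : Function.Injective f := fun u v h =>
        Subgroup.mul_injective_of_disjoint hdisj h
      rw [← hr, ← Nat.card_congr (MonoidHom.ofInjective hf).toEquiv, Nat.card_prod, hAcard,
        Nat.card_zpowers, hord]
      ring
    refine ⟨_, hFA.trans le_sup_left, fun a ha b hb => PGroups.elemAb_comm hB ha hb,
      fun a ha => PGroups.elemAb_pow hB ha, hcardB, ?_⟩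
    have hcent : Subgroup.centralizer ((A ⊔ Subgroup.zpowers x : Subgroup P) : Set P) =
        Subgroup.centralizer (A : Set P) ⊓ Subgroup.centralizer {x} := by
      rw [← Subgroup.centralizer_closure {x}, ← Subgroup.zpowers_eq_closure]
      refine le_antisymm (le_inf (Subgroup.centralizer_le (SetLike.coe_subset_coe.mpr le_sup_left))
        (Subgroup.centralizer_le (SetLike.coe_subset_coe.mpr le_sup_right))) ?_
      intro c hc
      rw [Subgroup.mem_centralizer_iff]
      have : A ⊔ Subgroup.zpowers x ≤ Subgroup.centralizer {c} := sup_le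
        (fun a ha => Subgroup.mem_centralizer_singleton_iff.mpr (Subgroup.mem_centralizer_iff.mp hc.1 a ha))
        (fun a ha => Subgroup.mem_centralizer_singleton_iff.mpr (Subgroup.mem_centralizer_iff.mp hc.2 a ha))
      exact fun a ha => Subgroup.mem_centralizer_singleton_iff.mp (this ha)
    let ψ : P →* F := MonoidHom.mk' (fun g => ⟨⁅x, g⁆, hPF x g⟩) fun g h => Subtype.ext (by
      show ⁅x, g * h⁆ = ⁅x, g⁆ * ⁅x, h⁆
      have hz := Subgroup.mem_center_iff.mp (hFc (hPF x h)) g
      simp only [commutatorElement_def] at hz ⊢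
      calc x * (g * h) * x⁻¹ * (g * h)⁻¹ = x * g * x⁻¹ * ((x * h * x⁻¹ * h⁻¹) * g⁻¹) := by group
        _ = x * g * x⁻¹ * g⁻¹ * (g * (x * h * x⁻¹ * h⁻¹) * g⁻¹) := by group
        _ = _ := by rw [hz, mul_inv_cancel_right])
    have hker : ψ.ker ≤ Subgroup.centralizer {x} := fun g hg => by
      rw [Subgroup.mem_centralizer_singleton_iff]
      exact (commutatorElement_eq_one_iff_mul_comm.mp (congrArg Subtype.val hg : ⁅x, g⁆ = 1)).symm
    have hidx : (Subgroup.centralizer {x} : Subgroup P).index ≤ p ^ l := by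
      refine (Nat.le_of_dvd (Nat.pos_of_ne_zero Subgroup.index_ne_zero_of_finite)
        (Subgroup.index_dvd_of_le hker)).trans ?_
      rw [Subgroup.index_ker, ← hl]
      exact Subgroup.card_le_card_group _
    rw [hcent]
    refine hC.trans ?_
    rw [Nat.mul_succ, pow_add, ← mul_assoc, mul_right_comm]
    refine Nat.mul_le_mul_right _ ?_
    calc Nat.card (Subgroup.centralizer (A : Set P))
        = Nat.card (Subgroup.centralizer (A : Set P) ⊓ Subgroup.centralizer {x} : Subgroup P) *
          (Subgroup.centralizer {x}).relIndex (Subgroup.centralizer (A : Set P)) := by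
          rw [← Subgroup.inf_relIndex_left, ← Subgroup.relIndex_bot_left, ← Subgroup.relIndex_bot_left,
            Subgroup.relIndex_mul_relIndex _ _ _ bot_le inf_le_left]
      _ ≤ _ := Nat.mul_le_mul_left _ ((Subgroup.relIndex_le_of_le_right le_top (by
          rw [Subgroup.relIndex_top_right]; exact Subgroup.index_ne_zero_of_finite)).trans
            (by rw [Subgroup.relIndex_top_right]; exact hidx))

end Cfsg.Agent.Lib.Elem70.ClassTwoRank
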