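/-
Groups in which `p`-subgroups of equal order are conjugate: inheritance and the normal subgroup trick.
-/
import Mathlib.GroupTheory.Sylow
import Mathlib.GroupTheory.QuotientGroup.Basic

set_option autoImplicit false
set_option linter.style.haveILetI false

namespace Cfsg.Agent.Lib.Elem70.EqualOrder

open Subgroup

variable {G : Type*} [Group G] {p : ℕ}

/-- `p`-subgroups of equal order are conjugate. -/
def SameOrderConj (p : ℕ) (G : Type*) [Group G] : Prop :=
  ∀ H K : Subgroup G, IsPGroup p H → IsPGroup p K → Nat.card H = Nat.card K →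
    ∃ g : G, K = H.map (MulAut.conj g).toMonoidHom

/-- A `p`-subgroup of a quotient is the image of a `p`-subgroup of equal or larger order. -/
theorem exists_pSubgroup_map [Finite G] [Fact p.Prime] {G' : Type*} [Group G'] (f : G →* G')
    (hf : Function.Surjective f) {X : Subgroup G'} (hX : IsPGroup p X) :
    ∃ Y : Subgroup G, IsPGroup p Y ∧ Y.map f = X := by
  haveI : Finite G' := Finite.of_surjective f hf
  obtain ⟨S⟩ : Nonempty (Sylow p (X.comap f)) := inferInstance
  refine ⟨(S : Subgroup (X.comap f)).map (X.comap f).subtype, S.isPGroup'.map _, ?_⟩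
  have hfs : Function.Surjective (f.subgroupComap X) :=
    MonoidHom.subgroupComap_surjective_of_surjective f X hf
  have h1 : (S : Subgroup (X.comap f)).map (f.subgroupComap X) = ⊤ := by
    exact ((S.mapSurjective hfs).is_maximal' (hX.of_equiv Subgroup.topEquiv.symm) le_top).symm
  rw [Subgroup.map_map, show f.comp (X.comap f).subtype = X.subtype.comp (f.subgroupComap X) from
    MonoidHom.ext fun _ => rfl, ← Subgroup.map_map, h1, ← MonoidHom.range_eq_map, range_subtype]

/-- Enlarging a `p`-subgroup to any possible order. -/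
theorem exists_pSubgroup_ge [Finite G] [Fact p.Prime] {Y : Subgroup G} (hY : IsPGroup p Y)
    {i : ℕ} (hlo : Nat.card Y ≤ p ^ i) (hi : p ^ i ∣ Nat.card G) :
    ∃ H : Subgroup G, Nat.card H = p ^ i ∧ Y ≤ H := by
  obtain ⟨j, hj⟩ := IsPGroup.iff_card.1 hY
  exact Sylow.exists_subgroup_card_pow_prime_le p hi Y hj
    ((Nat.pow_le_pow_iff_right (Fact.out : p.Prime).one_lt).1 (hj ▸ hlo))

theorem sameOrderConj_quotient [Finite G] [Fact p.Prime] (h : SameOrderConj p G) (N : Subgroup G)
    [N.Normal] : SameOrderConj p (G ⧸ N) := by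
  intro X Y hX hY hXY
  let f := QuotientGroup.mk' N
  -- Sylow subgroups of the preimages
  have key : ∀ X : Subgroup (G ⧸ N), IsPGroup p X → ∃ S : Subgroup G, IsPGroup p S ∧ S.map f = X ∧
      Nat.card S = p ^ (Nat.card X * Nat.card N).factorization p := by
    intro X hX
    obtain ⟨S⟩ : Nonempty (Sylow p (X.comap f)) := inferInstance
    have hfs : Function.Surjective (f.subgroupComap X) :=
      MonoidHom.subgroupComap_surjective_of_surjective f X (QuotientGroup.mk'_surjective N)
    have h1 : (S : Subgroup (X.comap f)).map (f.subgroupComap X) = ⊤ :=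
      ((S.mapSurjective hfs).is_maximal' (hX.of_equiv Subgroup.topEquiv.symm) le_top).symm
    refine ⟨(S : Subgroup (X.comap f)).map (X.comap f).subtype, S.isPGroup'.map _, ?_, ?_⟩
    · rw [Subgroup.map_map, show f.comp (X.comap f).subtype = X.subtype.comp (f.subgroupComap X) from
        MonoidHom.ext fun _ => rfl, ← Subgroup.map_map, h1, ← MonoidHom.range_eq_map, range_subtype]
    · rw [Subgroup.card_map_of_injective (X.comap f).subtype_injective, S.card_eq_multiplicity,
        mul_comm]
      congr 3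
      exact QuotientGroup.card_preimage_mk N (X : Set (G ⧸ N))
  obtain ⟨S, hS, rfl, hSc⟩ := key X hX
  obtain ⟨T, hT, rfl, hTc⟩ := key Y hY
  obtain ⟨g, rfl⟩ := h S T hS hT (by rw [hSc, hTc, hXY])
  refine ⟨f g, ?_⟩
  rw [Subgroup.map_map, Subgroup.map_map]
  congr 1

/-- A normal `p`-subgroup is the only `p`-subgroup of its order. -/
theorem eq_of_card_eq (h : SameOrderConj p G) {M H : Subgroup G} [hM : M.Normal] (hMp : IsPGroup p M)
    (hH : IsPGroup p H) (hc : Nat.card H = Nat.card M) : H = M := by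
  obtain ⟨g, hg⟩ := h M H hMp hH hc.symm
  rw [hg]
  exact hM.conjAct (ConjAct.toConjAct g)

/-- A normal `p`-subgroup contains every smaller `p`-subgroup. -/
theorem le_of_card_le [Finite G] [Fact p.Prime] (h : SameOrderConj p G) {M Y : Subgroup G}
    [hM : M.Normal] (hMp : IsPGroup p M) (hY : IsPGroup p Y) (hc : Nat.card Y ≤ Nat.card M) :
    Y ≤ M := by
  obtain ⟨i, hi⟩ := IsPGroup.iff_card.1 hMp
  obtain ⟨H, hH, hYH⟩ := exists_pSubgroup_ge hY (hi ▸ hc) (hi ▸ M.card_subgroup_dvd_card)
  exact eq_of_card_eq h hMp (IsPGroup.of_card hH) (hH.trans hi.symm) ▸ hYH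

/-- A normal `p`-subgroup lies in every larger `p`-subgroup. -/
theorem ge_of_card_le [Finite G] [Fact p.Prime] (h : SameOrderConj p G) {M Y : Subgroup G}
    [hM : M.Normal] (hMp : IsPGroup p M) (hY : IsPGroup p Y) (hc : Nat.card M ≤ Nat.card Y) :
    M ≤ Y := by
  obtain ⟨i, hi⟩ := IsPGroup.iff_card.1 hMp
  obtain ⟨j, hj⟩ := IsPGroup.iff_card.1 hY
  obtain ⟨H, hH, -⟩ := Sylow.exists_subgroup_card_pow_prime_le p (G := Y) (n := 0) (m := i)
    (hj ▸ pow_dvd_pow p ((Nat.pow_le_pow_iff_right (Fact.out : p.Prime).one_lt).1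
      (hi ▸ hj ▸ hc))) ⊥ (by simp) (Nat.zero_le i)
  have := eq_of_card_eq h hMp (IsPGroup.of_card (n := i)
    ((Subgroup.card_map_of_injective Y.subtype_injective).trans hH))
    (((Subgroup.card_map_of_injective Y.subtype_injective).trans hH).trans hi.symm)
  exact this ▸ Subgroup.map_subtype_le H

end Cfsg.Agent.Lib.Elem70.EqualOrder
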