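import Cfsg.Agent.Lib.PGroups.Frattini
import Mathlib

/-!
Numbers of generators of finite `p`-groups: the groups with central elements of order `p`, and
groups of automorphisms of an elementary abelian group respecting a flag (a Mantel bound).
-/

set_option autoImplicit false

namespace Cfsg.Agent.Lib.Elem70.GenBound

open scoped commutatorElement

/-- A triangle-free set of ordered pairs on a finite vertex set has at most `n²/4` members. -/
theorem mantel : ∀ (n : ℕ) (V : Finset ℕ) (T : Finset (ℕ × ℕ)), V.card = n →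
    (∀ e ∈ T, e.1 ∈ V ∧ e.2 ∈ V ∧ e.1 < e.2) →
    (∀ i j l, (i, j) ∈ T → (j, l) ∈ T → (i, l) ∉ T) → 4 * T.card ≤ n ^ 2 := by
  intro n
  induction n using Nat.strong_induction_on with
  | _ n ih =>
    intro V T hV hT htri
    rcases T.eq_empty_or_nonempty with rfl | ⟨⟨u, v⟩, huv⟩
    · simp
    obtain ⟨hu, hv, hlt⟩ := hT _ huv
    simp only at hu hv hlt
    set V' := (V.erase u).erase v with hV'
    set T' := T.filter fun e => e.1 ∈ V' ∧ e.2 ∈ V' with hT'
    have hV'card : V'.card + 2 = n := by
      rw [hV', Finset.card_erase_of_mem (Finset.mem_erase.mpr ⟨hlt.ne', hv⟩),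
        Finset.card_erase_of_mem hu]
      have : 2 ≤ V.card := Finset.one_lt_card.mpr ⟨u, hu, v, hv, hlt.ne⟩
      omega
    have h1 := ih V'.card (by omega) V' T' rfl
      (fun e he => ⟨(Finset.mem_filter.mp he).2.1, (Finset.mem_filter.mp he).2.2,
        (hT e (Finset.mem_filter.mp he).1).2.2⟩)
      fun i j l hij hjl hil => htri i j l (Finset.mem_filter.mp hij).1 (Finset.mem_filter.mp hjl).1
        (Finset.mem_filter.mp hil).1
    set R := (T.filter fun e => ¬ (e.1 ∈ V' ∧ e.2 ∈ V')).erase (u, v) with hR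
    have hsplit : T.card = T'.card + (R.card + 1) := by
      rw [hR, Finset.card_erase_add_one (Finset.mem_filter.mpr ⟨huv, by simp [hV']⟩), hT',
        Finset.card_filter_add_card_filter_not]
    have hmemR : ∀ x y, (x, y) ∈ R → (x, y) ∈ T ∧ x < y ∧
        (((x = u ∨ x = v) ∧ y ∈ V') ∨ ((y = u ∨ y = v) ∧ x ∈ V')) := by
      intro x y he
      rw [hR, Finset.mem_erase, Finset.mem_filter, Ne, Prod.mk.injEq] at he
      obtain ⟨hne, heT, hmem⟩ := he
      obtain ⟨hx, hy, hxy⟩ := hT _ heT
      simp only at hx hy hxy hmem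
      refine ⟨heT, hxy, ?_⟩
      by_cases h1 : x = u ∨ x = v
      · refine Or.inl ⟨h1, ?_⟩
        rw [hV', Finset.mem_erase, Finset.mem_erase]
        rcases h1 with rfl | rfl
        · exact ⟨fun h => hne ⟨rfl, h⟩, hxy.ne', hy⟩
        · exact ⟨hxy.ne', (hlt.trans hxy).ne', hy⟩
      · push Not at h1
        have hx' : x ∈ V' := by
          rw [hV', Finset.mem_erase, Finset.mem_erase]; exact ⟨h1.2, h1.1, hx⟩
        refine Or.inr ⟨?_, hx'⟩
        by_contra h2
        push Not at h2
        exact hmem ⟨hx', by rw [hV', Finset.mem_erase, Finset.mem_erase]; exact ⟨h2.2, h2.1, hy⟩⟩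
    have hRle : R.card ≤ V'.card := by
      let other : ℕ × ℕ → ℕ := fun e => if e.1 = u ∨ e.1 = v then e.2 else e.1
      have hnotV : ∀ x ∈ V', ¬ (x = u ∨ x = v) := by
        intro x hx
        rw [hV', Finset.mem_erase, Finset.mem_erase] at hx
        rintro (rfl | rfl)
        · exact hx.2.1 rfl
        · exact hx.1 rfl
      have hoth : ∀ x y, (x, y) ∈ R → other (x, y) ∈ V' ∧ ∃ s, (s = u ∨ s = v) ∧
          ((x = s ∧ y = other (x, y) ∧ s < other (x, y)) ∨
            (y = s ∧ x = other (x, y) ∧ other (x, y) < s)) := by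
        intro x y he
        obtain ⟨-, hxy, ⟨hs, hy⟩ | ⟨hs, hx⟩⟩ := hmemR x y he
        · have ho : other (x, y) = y := if_pos hs
          rw [ho]
          exact ⟨hy, x, hs, Or.inl ⟨rfl, rfl, hxy⟩⟩
        · have ho : other (x, y) = x := if_neg (hnotV x hx)
          rw [ho]
          exact ⟨hx, y, hs, Or.inr ⟨rfl, rfl, hxy⟩⟩
      refine Finset.card_le_card_of_injOn other ?_ ?_
      · rintro ⟨x, y⟩ he
        exact (hoth x y he).1
      · rintro ⟨x, y⟩ he ⟨x', y'⟩ he' heq
        obtain ⟨-, s, hs, h1⟩ := hoth x y he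
        obtain ⟨-, s', hs', h2⟩ := hoth x' y' he'
        rw [← heq] at h2
        have hT1 := (hmemR x y he).1
        have hT2 := (hmemR x' y' he').1
        generalize other (x, y) = w at h1 h2
        rcases h1 with ⟨rfl, rfl, l1⟩ | ⟨rfl, rfl, l1⟩ <;>
          rcases h2 with ⟨rfl, rfl, l2⟩ | ⟨rfl, rfl, l2⟩ <;>
          rcases hs with rfl | rfl <;> rcases hs' with rfl | rfl <;>
          first
            | rfl
            | (exfalso; omega)
            | exact absurd hT1 (htri _ _ _ huv hT2)
            | exact absurd hT2 (htri _ _ _ huv hT1)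
            | exact absurd huv (htri _ _ _ hT1 hT2)
            | exact absurd huv (htri _ _ _ hT2 hT1)
            | exact absurd hT1 (htri _ _ _ hT2 huv)
            | exact absurd hT2 (htri _ _ _ hT1 huv)
    calc 4 * T.card ≤ V'.card ^ 2 + 4 * (V'.card + 1) := by omega
      _ = n ^ 2 := by rw [← hV'card]; ring

variable {G : Type*} [Group G] [Finite G] {p : ℕ} [hp : Fact p.Prime]

/-- If the elements of order `p` are central then `x ^ p = y ^ p` forces `(x⁻¹ y) ^ p = 1`. -/
theorem pow_eq_imp (hp2 : p ≠ 2) : ∀ (n : ℕ) {D : Subgroup G}, Nat.card D ≤ n → IsPGroup p D →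
    (∀ z ∈ D, z ^ p = 1 → ∀ g ∈ D, g * z = z * g) →
    ∀ x ∈ D, ∀ y ∈ D, x ^ p = y ^ p → (x⁻¹ * y) ^ p = 1 := by
  intro n
  induction n with
  | zero => intro D hD; have := Nat.card_pos (α := D); omega
  | succ n ih =>
    intro D hD hDp hcen x hx y hy hxy
    set S := Subgroup.closure ({x, y} : Set G) with hS
    have hSD : S ≤ D := (Subgroup.closure_le _).mpr (by
      rintro z (rfl | rfl) <;> assumption)
    rcases hSD.lt_or_eq with hlt | heq
    · refine ih (D := S) ?_ (hDp.to_le hSD) (fun z hz h g hg => hcen z (hSD hz) h g (hSD hg)) x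
        (Subgroup.subset_closure (Or.inl rfl)) y (Subgroup.subset_closure (Or.inr rfl)) hxy
      have h1 : Nat.card S < Nat.card D := lt_of_le_of_ne (Subgroup.card_le_of_le hSD)
        fun he => hlt.ne (Subgroup.eq_of_le_of_card_ge hSD he.ge)
      omega
    -- now `D = ⟨x, y⟩`; a conjugate of `x` and `x` generate a proper subgroup
    set x' := y * x * y⁻¹ with hx'
    have hx'p : x' ^ p = x ^ p := by
      rw [hx', conj_pow, hxy]
      group
    by_cases hcyc : x' = x
    · have hc : Commute x y := (mul_inv_eq_iff_eq_mul.mp hcyc).symm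
      rw [(hc.inv_left).mul_pow, inv_pow, hxy, inv_mul_cancel]
    set S' := Subgroup.closure ({x, x'} : Set G) with hS'
    have hS'D : S' ≤ D := (Subgroup.closure_le _).mpr (by
      rintro z (rfl | rfl)
      · exact hx
      · exact D.mul_mem (D.mul_mem hy hx) (D.inv_mem hy))
    have hne : S' ≠ D := by
      intro he
      -- modulo the Frattini subgroup `D` would be generated by `x`
      have htop : Subgroup.closure ({(⟨x, hx⟩ : D)} : Set D) ⊔ frattini D = ⊤ := by
        refine eq_top_iff.mpr fun d _ => ?_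
        have hle : S' ≤ (Subgroup.closure ({(⟨x, hx⟩ : D)} : Set D) ⊔ frattini D).map D.subtype := by
          rw [hS', Subgroup.closure_le]
          rintro z (rfl | rfl)
          · exact ⟨⟨z, hx⟩, Subgroup.mem_sup_left (Subgroup.mem_closure_singleton_self _), rfl⟩
          · refine ⟨⁅(⟨y, hy⟩ : D), (⟨x, hx⟩ : D)⁆ * ⟨x, hx⟩, Subgroup.mul_mem _ (Subgroup.mem_sup_right
              (PGroups.commutatorElement_mem_frattini hDp _ _)) (Subgroup.mem_sup_left
                (Subgroup.mem_closure_singleton_self _)), ?_⟩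
            simp [hx', commutatorElement_def, mul_assoc]
        obtain ⟨d', hd', he'⟩ := hle (show (d : G) ∈ S' by rw [he]; exact d.2)
        have hdd : d' = d := Subtype.ext he'
        exact hdd ▸ hd' 
      have hcl := PGroups.closure_eq_top_of_sup_frattini htop
      have hy' : (⟨y, hy⟩ : D) ∈ Subgroup.closure ({(⟨x, hx⟩ : D)} : Set D) := hcl ▸ Subgroup.mem_top _
      obtain ⟨i, hi⟩ := Subgroup.mem_closure_singleton.mp hy'
      apply hcyc
      have hi' : x ^ i = y := congrArg Subtype.val hi
      rw [hx', ← hi']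
      group
    have hlt : Nat.card S' < Nat.card D := lt_of_le_of_ne (Subgroup.card_le_of_le hS'D)
      fun he => hne (Subgroup.eq_of_le_of_card_ge hS'D he.ge)
    have h1 := ih (D := S') (by omega) (hDp.to_le hS'D)
      (fun z hz h g hg => hcen z (hS'D hz) h g (hS'D hg)) x (Subgroup.subset_closure (Or.inl rfl))
      x' (Subgroup.subset_closure (Or.inr rfl)) hx'p.symm
    -- so the commutator is central of order `p`
    set c := x⁻¹ * x' with hc
    have hcD : c ∈ D := D.mul_mem (D.inv_mem hx) (hS'D (Subgroup.subset_closure (Or.inr rfl)))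
    have hcc : ∀ g ∈ D, g * c = c * g := hcen c hcD h1
    have hyx : y * x⁻¹ = x⁻¹ * y * c⁻¹ := by
      rw [← hcc _ (D.mul_mem (D.inv_mem hx) hy) |> fun h => (show c⁻¹ * (x⁻¹ * y) = x⁻¹ * y * c⁻¹ by
        rw [eq_mul_inv_iff_mul_eq, mul_assoc, h]; group)]
      rw [hc, hx']; group
    have hgen : ∀ m : ℕ, (x⁻¹ * y) ^ m = x⁻¹ ^ m * y ^ m * c⁻¹ ^ m.choose 2 := by
      have hcomm : ∀ g ∈ D, ∀ j : ℕ, Commute g (c⁻¹ ^ j) := fun g hg j =>
        ((show Commute g c from hcc g hg).inv_right).pow_right j
      have hpowy : ∀ m : ℕ, y ^ m * x⁻¹ = x⁻¹ * y ^ m * c⁻¹ ^ m := by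
        intro m
        induction m with
        | zero => simp
        | succ m ih =>
          calc y ^ (m + 1) * x⁻¹ = y * (y ^ m * x⁻¹) := by rw [pow_succ', mul_assoc]
            _ = y * x⁻¹ * y ^ m * c⁻¹ ^ m := by rw [ih]; group
            _ = x⁻¹ * y * (c⁻¹ * y ^ m) * c⁻¹ ^ m := by rw [hyx]; group
            _ = x⁻¹ * y * (y ^ m * c⁻¹) * c⁻¹ ^ m := by
                rw [← ((hcomm _ (D.pow_mem hy m) 1).eq |> fun h => (by simpa using h : y ^ m * c⁻¹ = c⁻¹ * y ^ m))]
            _ = _ := by rw [pow_succ' y, pow_succ' c⁻¹]; group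
      intro m
      induction m with
      | zero => simp
      | succ m ih =>
        rw [pow_succ, ih, Nat.choose_succ_succ', Nat.choose_one_right, pow_add]
        calc x⁻¹ ^ m * y ^ m * c⁻¹ ^ m.choose 2 * (x⁻¹ * y)
            = x⁻¹ ^ m * y ^ m * (x⁻¹ * y * c⁻¹ ^ m.choose 2) := by
              rw [(hcomm _ (D.mul_mem (D.inv_mem hx) hy) _).eq]; group
          _ = x⁻¹ ^ m * (y ^ m * x⁻¹) * y * c⁻¹ ^ m.choose 2 := by group
          _ = x⁻¹ ^ m * x⁻¹ * y ^ m * (c⁻¹ ^ m * y) * c⁻¹ ^ m.choose 2 := by rw [hpowy]; group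
          _ = x⁻¹ ^ m * x⁻¹ * y ^ m * (y * c⁻¹ ^ m) * c⁻¹ ^ m.choose 2 := by
              rw [(hcomm _ hy m).eq]
          _ = _ := by rw [pow_succ x⁻¹, pow_succ y]; group
    obtain ⟨j, hj⟩ : p ∣ p.choose 2 := hp.out.dvd_choose_self two_ne_zero (by
      have := hp.out.two_le; omega)
    rw [hgen, inv_pow x, hxy, inv_mul_cancel, one_mul, hj, pow_mul, inv_pow, h1, inv_one, one_pow]

/-- Greedy generators modulo the Frattini subgroup. -/
theorem exists_generators (hG : IsPGroup p G) : ∀ (m : ℕ), (frattini G).index ≤ p ^ m →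
    ∃ S : Finset G, S.card ≤ m ∧ Subgroup.closure (S : Set G) = ⊤ := by
  classical
  intro m hm
  suffices H : ∀ j : ℕ, ∃ S : Finset G, S.card ≤ j ∧
      ((Subgroup.closure (S : Set G) ⊔ frattini G = ⊤) ∨
        p ^ j * Nat.card (frattini G) ≤ Nat.card (Subgroup.closure (S : Set G) ⊔ frattini G : Subgroup G)) by
    obtain ⟨S, hS, h⟩ := H m
    refine ⟨S, hS, PGroups.closure_eq_top_of_sup_frattini ?_⟩
    rcases h with h | h
    · exact h
    · refine Subgroup.eq_top_of_le_card _ (le_trans ?_ h)
      rw [← Subgroup.index_mul_card (frattini G)]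
      exact Nat.mul_le_mul_right _ hm
  intro j
  induction j with
  | zero =>
    refine ⟨∅, le_refl _, Or.inr ?_⟩
    rw [pow_zero, one_mul]
    exact Subgroup.card_le_of_le le_sup_right
  | succ j ih =>
    obtain ⟨S, hS, h⟩ := ih
    by_cases htop : Subgroup.closure (S : Set G) ⊔ frattini G = ⊤
    · exact ⟨S, by omega, Or.inl htop⟩
    have hcard := h.resolve_left htop
    obtain ⟨g, -, hg⟩ := SetLike.exists_of_lt (lt_top_iff_ne_top.mpr htop)
    refine ⟨insert g S, (Finset.card_insert_le _ _).trans (by omega), Or.inr ?_⟩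
    set K := Subgroup.closure (S : Set G) ⊔ frattini G
    set K' := Subgroup.closure ((insert g S : Finset G) : Set G) ⊔ frattini G
    have hKK : K ≤ K' := sup_le_sup_right (Subgroup.closure_mono (by
      simp [Finset.coe_insert])) _
    have hgK' : g ∈ K' := Subgroup.mem_sup_left (Subgroup.subset_closure (by simp))
    obtain ⟨q, hq⟩ := Subgroup.card_dvd_of_le hKK
    have hq1 : q ≠ 1 := fun h1 => hg ((Subgroup.eq_of_le_of_card_ge hKK (by rw [hq, h1, Nat.mul_one])).ge hgK')
    have hqd : q ∣ Nat.card G := (Dvd.intro_left _ hq.symm).trans (Subgroup.card_subgroup_dvd_card K')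
    obtain ⟨e, he⟩ := IsPGroup.iff_card.mp hG
    rw [he] at hqd
    obtain ⟨i, -, rfl⟩ := (Nat.dvd_prime_pow hp.out).mp hqd
    have hi : p ≤ p ^ i := Nat.le_self_pow (fun h => hq1 (by rw [h, pow_zero])) p
    rw [hq, pow_succ', mul_assoc, mul_comm p]
    exact Nat.mul_le_mul hcard hi

/-- A `p`-group (`p` odd) with central elements of order `p` has at most as many generators as the
rank of the group they form. -/
theorem exists_generators_of_central (hp2 : p ≠ 2) (hG : IsPGroup p G) (E : Subgroup G)
    (hE : ∀ z : G, z ^ p = 1 → z ∈ E) (hEc : E ≤ Subgroup.center G) {m : ℕ}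
    (hm : Nat.card E ≤ p ^ m) : ∃ S : Finset G, S.card ≤ m ∧ Subgroup.closure (S : Set G) = ⊤ := by
  classical
  refine exists_generators hG m ?_
  have hfib : Nat.card G ≤ Nat.card (frattini G) * Nat.card E := by
    let s : Set.range (fun x : G => x ^ p) → G := fun v => Classical.choose v.2
    have hs : ∀ v : Set.range (fun x : G => x ^ p), s v ^ p = (v : G) :=
      fun v => Classical.choose_spec v.2
    have hr : Nat.card (Set.range fun x : G => x ^ p) ≤ Nat.card (frattini G) :=
      Nat.card_le_card_of_injective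
        (fun v => (⟨v.1, by obtain ⟨x, hx⟩ := v.2; exact hx ▸ PGroups.pow_mem_frattini hG x⟩ : frattini G))
        fun u v h => Subtype.ext (congrArg (fun t : frattini G => (t : G)) h)
    refine le_trans ?_ (Nat.mul_le_mul_right _ hr)
    rw [← Nat.card_prod]
    refine Nat.card_le_card_of_surjective
      (fun w : Set.range (fun x : G => x ^ p) × E => s w.1 * (w.2 : G)) fun y => ?_
    set v : Set.range (fun x : G => x ^ p) := ⟨y ^ p, y, rfl⟩
    refine ⟨(v, ⟨(s v)⁻¹ * y, hE _ ?_⟩), by simp⟩
    exact pow_eq_imp hp2 (Nat.card (⊤ : Subgroup G)) (D := ⊤) le_rfl (hG.to_subgroup _)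
      (fun z _ hz g _ => Subgroup.mem_center_iff.mp (hEc (hE z hz)) g) _ (Subgroup.mem_top _) y
      (Subgroup.mem_top _) (hs v)
  rw [← Subgroup.index_mul_card (frattini G), mul_comm (Nat.card (frattini G))] at hfib
  exact (Nat.le_of_mul_le_mul_right hfib Nat.card_pos).trans hm

section Flag

variable {A : Type*} [CommGroup A] {X : Type*} [Group X] (φ : X →* MulAut A)

/-- The elements acting trivially from `U` modulo `W`. -/
def trivMod (U W : Subgroup A) (hW : ∀ x, ∀ w ∈ W, φ x w ∈ W) (hU : ∀ x, ∀ u ∈ U, φ x u ∈ U) : Subgroup X where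
  carrier := {x | ∀ u ∈ U, φ x u / u ∈ W}
  mul_mem' := fun {x y} hx hy u hu => by
    have h : φ (x * y) u / u = φ x (φ y u / u) * (φ x u / u) := by
      rw [map_mul, MulAut.mul_apply, map_div, div_mul_div_cancel]
    rw [h]
    exact W.mul_mem (hW x _ (hy u hu)) (hx u hu)
  one_mem' := fun u _ => by simp
  inv_mem' := fun {x} hx u hu => by
    have h1 := W.inv_mem (hx _ (hU x⁻¹ u hu))
    have h2 : φ x (φ x⁻¹ u) = u := by rw [← MulAut.mul_apply, ← map_mul]; simp
    rw [h2, inv_div] at h1
    exact h1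

variable [Finite X] [Finite A]

/-- A faithful group of automorphisms respecting a flag with steps of order `p` has at most
`a²/4` generators, as it is a `p`-group. -/
theorem exists_generators_of_flag (hX : IsPGroup p X) (hinj : Function.Injective φ) (a : ℕ)
    (F : ℕ → Subgroup A) (e : ℕ → A) (h0 : F 0 = ⊤) (hbot : ∀ n, a ≤ n → F n = ⊥)
    (hanti : Antitone F) (hinv : ∀ n x, ∀ u ∈ F n, φ x u ∈ F n)
    (hgr : ∀ n x, ∀ u ∈ F n, φ x u / u ∈ F (n + 1))
    (hgen : ∀ n, F n = F (n + 1) ⊔ Subgroup.zpowers (e n))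
    (hpe : ∀ n, e n ^ p ∈ F (n + 1)) :
    ∃ S : Finset X, 4 * S.card ≤ a ^ 2 ∧ Subgroup.closure (S : Set X) = ⊤ := by
  classical
  let Y : ℕ → ℕ → Subgroup X := fun d i => ⨅ r : ℕ,
    trivMod φ (F r) (F (r + d + if r < i then 1 else 0)) (hinv _) (hinv _)
  have hmemY : ∀ {d i x}, x ∈ Y d i ↔ ∀ r, ∀ u ∈ F r, φ x u / u ∈ F (r + d + if r < i then 1 else 0) := by
    intro d i x
    simp only [Y, Subgroup.mem_iInf]
    rfl
  have hen : ∀ n, e n ∈ F n := fun n => by
    rw [hgen n]; exact Subgroup.mem_sup_right (Subgroup.mem_zpowers _)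
  -- congruence modulo the graded pieces
  have hmod : ∀ n x, ∀ u ∈ F n, ∀ W : Subgroup A, F (n + 1) ≤ W → (φ x u ∈ W ↔ u ∈ W) := by
    intro n x u hu W hW
    have h := hW (hgr n x u hu)
    refine ⟨fun h' => ?_, fun h' => ?_⟩
    · have := W.div_mem h' h
      rwa [div_div_cancel] at this
    · have := W.mul_mem h h'
      rwa [div_mul_cancel] at this
  -- the leading coefficient at `(d, i)`
  have hlead : ∀ d i, ∀ x ∈ Y d i, (φ x (e i) / e i ∈ F (i + d + 1) → x ∈ Y d (i + 1)) := by
    intro d i x hx he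
    rw [hmemY] at hx ⊢
    intro r u hu
    rcases Nat.lt_trichotomy r i with h | h | h
    · have := hx r u hu
      rw [if_pos h] at this
      rwa [if_pos (by omega)]
    · subst h
      rw [if_pos (by omega)]
      rw [hgen r] at hu
      obtain ⟨w, hw, v, ⟨k, rfl⟩, rfl⟩ := Subgroup.mem_sup.mp hu
      rw [map_mul, map_zpow, mul_div_mul_comm, ← div_zpow]
      refine (F _).mul_mem ?_ ((F _).zpow_mem he k)
      have := hx (r + 1) w hw
      rw [if_neg (by omega)] at this
      rwa [show r + d + 1 = r + 1 + d + 0 by omega]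
    · have := hx r u hu
      rw [if_neg (by omega)] at this
      rwa [if_neg (by omega)]
  have hedge : ∀ d i, a ≤ i + d → Y d i ≤ Y d (i + 1) := fun d i h x hx =>
    hlead d i x hx (by
      have := (hmemY.mp hx) i (e i) (hen i)
      rw [if_neg (by omega), Nat.add_zero, hbot _ h, Subgroup.mem_bot] at this
      rw [this]; exact Subgroup.one_mem _)
  have hnext : ∀ d, Y d a ≤ Y (d + 1) 0 := by
    intro d x hx
    rw [hmemY] at hx ⊢
    intro r u hu
    rcases Nat.lt_or_ge r a with h | h
    · have := hx r u hu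
      rw [if_pos h] at this
      rwa [if_neg (by omega), show r + (d + 1) + 0 = r + d + 1 by omega]
    · rw [hbot r h, Subgroup.mem_bot] at hu
      subst hu
      simp
  have htop : Y 1 0 = ⊤ := eq_top_iff.mpr fun x _ => hmemY.mpr fun r u hu => by
    rw [if_neg (by omega)]; exact hgr r x u hu
  have hlast : Y (a + 1) 0 = ⊥ := by
    refine (Subgroup.eq_bot_iff_forall _).mpr fun x hx => hinj ?_
    rw [map_one]
    refine MulEquiv.ext fun u => ?_
    have := hmemY.mp hx 0 u (h0 ▸ Subgroup.mem_top u)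
    rw [hbot _ (by split_ifs <;> omega), Subgroup.mem_bot, div_eq_one] at this
    simpa using this
  set Φ := frattini X with hΦ
  -- the positions contributing modulo Φ
  let T : Finset (ℕ × ℕ) := ((Finset.range a) ×ˢ (Finset.range a)).filter
    fun e => e.1 < e.2 ∧ ¬ Y (e.2 - e.1) e.1 ≤ Y (e.2 - e.1) (e.1 + 1) ⊔ Φ
  have htri : ∀ i j l, (i, j) ∈ T → (j, l) ∈ T → (i, l) ∉ T := by
    intro i j l hij hjl hil
    simp only [T, Finset.mem_filter, Finset.mem_product, Finset.mem_range] at hij hjl hil
    obtain ⟨x, hx, hx'⟩ := SetLike.not_le_iff_exists.mp hij.2.2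
    obtain ⟨y, hy, hy'⟩ := SetLike.not_le_iff_exists.mp hjl.2.2
    have hxe : φ x (e i) / e i ∉ F (i + (j - i) + 1) := fun h => hx' (Subgroup.mem_sup_left (hlead _ _ x hx h))
    have hye : φ y (e j) / e j ∉ F (j + (l - j) + 1) := fun h => hy' (Subgroup.mem_sup_left (hlead _ _ y hy h))
    rw [show i + (j - i) = j by omega] at hxe
    rw [show j + (l - j) = l by omega] at hye
    set c := (x * y)⁻¹ * (y * x) with hc
    have hcu : ∀ u, φ (x * y) (φ c u / u) =
        (φ y (φ x u / u) / (φ x u / u)) / (φ x (φ y u / u) / (φ y u / u)) := by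
      intro u
      rw [map_div, ← MulAut.mul_apply, ← map_mul, hc, mul_inv_cancel_left, map_mul, map_mul,
        MulAut.mul_apply, MulAut.mul_apply, map_div (φ y), map_div (φ x)]
      apply Additive.ofMul.injective
      simp only [ofMul_div, ofMul_mul]
      abel
    have hxu := hmemY.mp hx
    have hyu := hmemY.mp hy
    have hwmem : ∀ r u, u ∈ F r → φ c u / u ∈ F (r + (l - i) + if r < i then 1 else 0) := by
      intro r u hu
      have h1 : φ (x * y) (φ c u / u) ∈ F (r + (l - i) + if r < i then 1 else 0) := by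
        rw [hcu]
        refine Subgroup.div_mem _ ?_ ?_
        · have := hyu _ _ (hxu r u hu)
          refine hanti ?_ this
          split_ifs <;> omega
        · have := hxu _ _ (hyu r u hu)
          refine hanti ?_ this
          split_ifs <;> omega
      have h2 := hinv _ (x * y)⁻¹ _ h1
      rwa [← MulAut.mul_apply, ← map_mul, inv_mul_cancel, map_one, MulAut.one_apply] at h2
    have hcY : c ∈ Y (l - i) i := hmemY.mpr hwmem
    -- its leading coefficient is nonzero
    have hcne : φ c (e i) / e i ∉ F (l + 1) := by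
      intro h
      have h1 : φ (x * y) (φ c (e i) / e i) ∈ F (l + 1) := hinv _ _ _ h
      rw [hcu] at h1
      have h2 : φ x (φ y (e i) / e i) / (φ y (e i) / e i) ∈ F (l + 1) := by
        have := hxu _ _ (hyu i (e i) (hen i))
        refine hanti ?_ this
        split_ifs <;> omega
      have h3 := Subgroup.mul_mem _ h1 h2
      rw [div_mul_cancel] at h3
      have hj : φ x (e i) / e i ∈ F j := by
        have := hxu i (e i) (hen i)
        rwa [if_neg (by omega), show i + (j - i) + 0 = j by omega] at this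
      rw [hgen j] at hj
      obtain ⟨w, hw, v, ⟨k, rfl⟩, hwk⟩ := Subgroup.mem_sup.mp hj
      simp only at hwk
      have hk : ¬ (p : ℤ) ∣ k := by
        rintro ⟨t, rfl⟩
        apply hxe
        rw [← hwk, zpow_mul, zpow_natCast]
        exact Subgroup.mul_mem _ hw (Subgroup.zpow_mem _ (hpe j) t)
      rw [← hwk, map_mul, map_zpow, mul_div_mul_comm, ← div_zpow] at h3
      have hw' : φ y w / w ∈ F (l + 1) := by
        have := hyu (j + 1) w hw
        refine hanti ?_ this
        split_ifs <;> omega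
      have h4 : (φ y (e j) / e j) ^ k ∈ F (l + 1) :=
        ((F (l + 1)).mul_mem_cancel_left hw').mp h3
      have h5 : (φ y (e j) / e j) ^ (p : ℤ) ∈ F (l + 1) := by
        rw [zpow_natCast, div_pow, ← map_pow]
        have := hyu (j + 1) _ (hpe j)
        refine hanti ?_ this
        split_ifs <;> omega
      obtain ⟨s, t, hst⟩ := ((Nat.prime_iff_prime_int.mp hp.out).coprime_iff_not_dvd.mpr hk).symm
      refine hye ?_
      have h6 := Subgroup.mul_mem _ ((F (l + 1)).zpow_mem h4 s) ((F (l + 1)).zpow_mem h5 t)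
      rwa [← zpow_mul, ← zpow_mul, ← zpow_add, mul_comm k, mul_comm (p : ℤ), hst, zpow_one] at h6
    -- so the position `(i, l)` is covered by Φ
    apply hil.2.2
    intro z hz
    have hcΦ : c ∈ Φ := by
      rw [hc, hΦ, show (x * y)⁻¹ * (y * x) = ⁅y⁻¹, x⁻¹⁆ by rw [commutatorElement_def]; group]
      exact PGroups.commutatorElement_mem_frattini hX _ _
    have hzl : φ z (e i) / e i ∈ F l := by
      have := hmemY.mp hz i (e i) (hen i)
      rwa [if_neg (by omega), show i + (l - i) + 0 = l by omega] at this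
    have hcl' : φ c (e i) / e i ∈ F l := by
      have := hwmem i (e i) (hen i)
      rwa [if_neg (by omega), show i + (l - i) + 0 = l by omega] at this
    rw [hgen l] at hzl hcl'
    obtain ⟨w, hw, v, ⟨k, rfl⟩, hwk⟩ := Subgroup.mem_sup.mp hcl'
    obtain ⟨w', hw', v', ⟨k', rfl⟩, hwk'⟩ := Subgroup.mem_sup.mp hzl
    simp only at hwk hwk'
    have hk : ¬ (p : ℤ) ∣ k := by
      rintro ⟨t, rfl⟩
      apply hcne
      rw [← hwk, zpow_mul, zpow_natCast]
      exact Subgroup.mul_mem _ hw (Subgroup.zpow_mem _ (hpe l) t)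
    obtain ⟨s, t, hst⟩ := ((Nat.prime_iff_prime_int.mp hp.out).coprime_iff_not_dvd.mpr hk).symm
    -- `δ (c ^ n) ≡ n δ c` on `e i`
    have hzc : ∀ n : ℕ, φ (c ^ n) (e i) / e i / (φ c (e i) / e i) ^ n ∈ F (l + 1) := by
      intro n
      induction n with
      | zero => simp
      | succ n ih =>
        have h1 : φ c (φ (c ^ n) (e i) / e i) / (φ (c ^ n) (e i) / e i) ∈ F (l + 1) := by
          have hn : φ (c ^ n) (e i) / e i ∈ F l := by
            have := hmemY.mp ((Y (l - i) i).pow_mem hcY n) i (e i) (hen i)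
            rwa [if_neg (by omega), show i + (l - i) + 0 = l by omega] at this
          exact hgr l c _ hn
        have := Subgroup.mul_mem _ h1 ih
        convert this using 1
        rw [pow_succ' c, map_mul, MulAut.mul_apply, map_div]
        generalize φ c (φ (c ^ n) (e i)) = P1
        generalize φ c (e i) = P2
        generalize φ (c ^ n) (e i) = P3
        apply Additive.ofMul.injective
        simp only [ofMul_div, ofMul_mul, pow_succ', ofMul_pow]
        abel
    set n := ((k' * s) % p).toNat with hn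
    have hn' : (n : ℤ) = (k' * s) % p := Int.toNat_of_nonneg (Int.emod_nonneg _ (by exact_mod_cast hp.out.ne_zero))
    have hzn : z * (c ^ n)⁻¹ ∈ Y (l - i) (i + 1) := by
      refine hlead _ _ _ ((Y (l - i) i).mul_mem hz ((Y (l - i) i).inv_mem ((Y (l - i) i).pow_mem hcY n))) ?_
      rw [show i + (l - i) + 1 = l + 1 by omega]
      set g := (c ^ n)⁻¹ with hg
      have hgl : φ g (e i) / e i ∈ F l := by
        have := hmemY.mp ((Y (l - i) i).inv_mem ((Y (l - i) i).pow_mem hcY n)) i (e i) (hen i)
        rwa [if_neg (by omega), show i + (l - i) + 0 = l by omega] at this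
      have h1 := hgr l z _ hgl
      have h2 := hgr l (c ^ n) _ hgl
      have h3 : φ (c ^ n) (φ g (e i)) = e i := by
        rw [← MulAut.mul_apply, ← map_mul, hg, mul_inv_cancel, map_one, MulAut.one_apply]
      rw [map_div, h3] at h2
      rw [map_div] at h1
      -- it is congruent to δz / δ(cⁿ)
      have h4 : (φ z (e i) / e i) / (φ (c ^ n) (e i) / e i) ∈ F (l + 1) := by
        have h5 : (φ z (e i) / e i) / (φ c (e i) / e i) ^ n ∈ F (l + 1) := by
          rw [← hwk, ← hwk']
          have h6 : e l ^ k' / (e l ^ k) ^ n ∈ F (l + 1) := by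
            rw [← zpow_natCast, ← zpow_mul, div_eq_mul_inv, ← zpow_neg, ← zpow_add]
            have hdiv : (p : ℤ) ∣ k' + -(k * n) := by
              have h7 := Int.emod_add_mul_ediv (k' * s) p
              rw [← hn'] at h7
              exact ⟨k' * t + k * ((k' * s) / p), by linear_combination -k * h7 + (-k') * hst⟩
            obtain ⟨q, hq⟩ := hdiv
            rw [hq, zpow_mul, zpow_natCast]
            exact Subgroup.zpow_mem _ (hpe l) q
          have h8 := Subgroup.mul_mem _ (Subgroup.div_mem _ hw' (Subgroup.pow_mem _ hw n)) h6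
          rw [mul_pow, mul_div_mul_comm]
          exact h8
        have h9 := Subgroup.div_mem _ h5 (hzc n)
        rwa [div_div_div_cancel_right] at h9
      have h10 := Subgroup.mul_mem _ (Subgroup.div_mem _ h1 h2) h4
      convert h10 using 1
      rw [map_mul, MulAut.mul_apply]
      generalize φ z (φ g (e i)) = Q1
      generalize φ z (e i) = Q2
      generalize φ g (e i) = Q3
      generalize φ (c ^ n) (e i) = Q4
      apply Additive.ofMul.injective
      simp only [ofMul_div, ofMul_mul]
      generalize Additive.ofMul Q1 = q1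
      generalize Additive.ofMul Q2 = q2
      generalize Additive.ofMul Q3 = q3
      generalize Additive.ofMul Q4 = q4
      abel
    have := Subgroup.mul_mem_sup hzn (Φ.pow_mem hcΦ n)
    rwa [inv_mul_cancel_right] at this
  -- counting
  have hcard : 4 * T.card ≤ a ^ 2 := by
    refine mantel a (Finset.range a) T (Finset.card_range a) (fun e he => ?_) htri
    simp only [T, Finset.mem_filter, Finset.mem_product] at he
    exact ⟨he.1.1, he.1.2, he.2.1⟩
  haveI hnorm : ∀ d i, (Y d i ⊔ Φ).Normal := fun d i => ⟨fun u hu g => by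
    have h1 : g * u * g⁻¹ * u⁻¹ ∈ Φ := by
      rw [← commutatorElement_def]; exact PGroups.commutatorElement_mem_frattini hX g u
    simpa using Subgroup.mul_mem _ (Subgroup.mem_sup_right (S := Y d i) h1) hu⟩
  -- one step
  have hstep : ∀ d i, (Y d (i + 1) ⊔ Φ).index ≤
      (Y d i ⊔ Φ).index * (if (i, i + d) ∈ T ∨ (d = 0) then p else 1) := by
    intro d i
    have hle : Y d (i + 1) ⊔ Φ ≤ Y d i ⊔ Φ := sup_le_sup_right (fun x hx => hmemY.mpr fun r u hu =>
      hanti (by split_ifs <;> omega) (hmemY.mp hx r u hu)) _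
    by_cases hsub : Y d i ≤ Y d (i + 1) ⊔ Φ
    · rw [le_antisymm hle (sup_le hsub le_sup_right)]
      exact Nat.le_mul_of_pos_right _ (by split_ifs; exacts [hp.out.pos, one_pos])
    have hT : (i, i + d) ∈ T ∨ d = 0 := by
      rcases Nat.eq_zero_or_pos d with h | h
      · exact Or.inr h
      refine Or.inl ?_
      have hlt : i + d < a := by
        by_contra hh
        exact hsub ((hedge d i (by omega)).trans le_sup_left)
      simp only [T, Finset.mem_filter, Finset.mem_product, Finset.mem_range]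
      refine ⟨⟨by omega, hlt⟩, by omega, ?_⟩
      rwa [show i + d - i = d by omega]
    rw [if_pos hT, ← Subgroup.relIndex_mul_index hle, mul_comm]
    refine Nat.mul_le_mul_left _ ?_
    -- the quotient has order p: two elements outside are congruent up to powers
    obtain ⟨x, hx, hx'⟩ := SetLike.not_le_iff_exists.mp hsub
    have hgenY : Y d i ≤ Y d (i + 1) ⊔ Subgroup.zpowers x := by
      intro z hz
      have hd : ∀ g ∈ Y d i, φ g (e i) / e i ∈ F (i + d) := fun g hg => by
        have := hmemY.mp hg i (e i) (hen i)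
        rwa [if_neg (by omega), Nat.add_zero] at this
      let Q := A ⧸ F (i + d + 1)
      let θ : Y d i →* Q := MonoidHom.mk' (fun g => ((φ (g : X) (e i) / e i : A) : Q)) fun g h => by
        show ((φ ((g : X) * h) (e i) / e i : A) : Q) = _
        rw [← QuotientGroup.mk_mul, QuotientGroup.eq, ← inv_mem_iff]
        have h1 := hgr _ (g : X) _ (hd h h.2)
        convert h1 using 1
        rw [map_mul, MulAut.mul_apply, map_div]
        generalize φ (g : X) (φ (h : X) (e i)) = Q1
        generalize φ (g : X) (e i) = Q2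
        generalize φ (h : X) (e i) = Q3
        apply Additive.ofMul.injective
        simp only [ofMul_div, ofMul_mul, ofMul_inv]
        generalize Additive.ofMul Q1 = q1
        generalize Additive.ofMul Q2 = q2
        generalize Additive.ofMul Q3 = q3
        abel
      have hrange : θ.range ≤ Subgroup.zpowers ((e (i + d) : A) : Q) := by
        rintro _ ⟨g, rfl⟩
        have := hd g g.2
        rw [hgen (i + d)] at this
        obtain ⟨w, hw, v, ⟨k, rfl⟩, hwk⟩ := Subgroup.mem_sup.mp this
        refine ⟨k, ?_⟩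
        show ((e (i + d) : A) : Q) ^ k = ((φ (g : X) (e i) / e i : A) : Q)
        rw [← hwk, QuotientGroup.mk_mul, (QuotientGroup.eq_one_iff w).mpr hw, one_mul, QuotientGroup.mk_zpow]
      have hxne : θ ⟨x, hx⟩ ≠ 1 := fun h => hx' (Subgroup.mem_sup_left (hlead d i x hx
        ((QuotientGroup.eq_one_iff _).mp h)))
      have hord : Nat.card (Subgroup.zpowers ((e (i + d) : A) : Q)) ∣ p := by
        rw [Nat.card_zpowers, orderOf_dvd_iff_pow_eq_one, ← QuotientGroup.mk_pow, QuotientGroup.eq_one_iff]
        exact hpe _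
      have hzx : Subgroup.zpowers (θ ⟨x, hx⟩) = θ.range := by
        refine Subgroup.eq_of_le_of_card_ge (Subgroup.zpowers_le.mpr ⟨_, rfl⟩) ?_
        have h1 := (Subgroup.card_dvd_of_le hrange).trans hord
        have h2 : p ≤ Nat.card (Subgroup.zpowers (θ ⟨x, hx⟩)) := by
          have h3 := (Subgroup.card_dvd_of_le (Subgroup.zpowers_le.mpr (⟨_, rfl⟩ : θ ⟨x, hx⟩ ∈ θ.range))).trans h1
          rcases (Nat.dvd_prime hp.out).mp h3 with h4 | h4
          · exact absurd (Subgroup.zpowers_eq_bot.mp (Subgroup.card_eq_one.mp h4)) hxne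
          · omega
        exact (Nat.le_of_dvd hp.out.pos h1).trans h2
      obtain ⟨k, hk⟩ := Subgroup.mem_zpowers_iff.mp (hzx.ge ⟨⟨z, hz⟩, rfl⟩)
      have hzk : z * (x ^ k)⁻¹ ∈ Y d (i + 1) := by
        refine hlead d i _ ((Y d i).mul_mem hz ((Y d i).inv_mem ((Y d i).zpow_mem hx k))) ?_
        rw [← QuotientGroup.eq_one_iff (N := F (i + d + 1))]
        have : θ (⟨z, hz⟩ * (⟨x, hx⟩ ^ k)⁻¹) = 1 := by
          rw [map_mul, map_inv, map_zpow, hk, mul_inv_cancel]
        simpa [θ] using this
      have := Subgroup.mul_mem_sup hzk (Subgroup.zpow_mem (Subgroup.zpowers x) (Subgroup.mem_zpowers x) k)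
      rwa [inv_mul_cancel_right] at this
    let π := QuotientGroup.mk' (Y d (i + 1) ⊔ Φ)
    have h1 : (Y d i ⊔ Φ).map π ≤ Subgroup.zpowers (π x) := by
      rw [Subgroup.map_sup, sup_le_iff]
      refine ⟨(Subgroup.map_mono hgenY).trans ?_, ?_⟩
      · rw [Subgroup.map_sup, MonoidHom.map_zpowers, sup_le_iff]
        refine ⟨?_, le_rfl⟩
        rintro _ ⟨u, hu, rfl⟩
        rw [show π u = 1 from (QuotientGroup.eq_one_iff u).mpr (Subgroup.mem_sup_left hu)]
        exact Subgroup.one_mem _
      · rintro _ ⟨u, hu, rfl⟩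
        rw [show π u = 1 from (QuotientGroup.eq_one_iff u).mpr (Subgroup.mem_sup_right hu)]
        exact Subgroup.one_mem _
    have h2 : Nat.card ((Y d i ⊔ Φ).map π) ≤ p := by
      refine (Subgroup.card_le_of_le h1).trans ?_
      rw [Nat.card_zpowers]
      refine Nat.le_of_dvd hp.out.pos (orderOf_dvd_of_pow_eq_one ?_)
      rw [← map_pow]
      exact (QuotientGroup.eq_one_iff _).mpr (Subgroup.mem_sup_right (PGroups.pow_mem_frattini hX x))
    rwa [← Subgroup.relIndex_ker, QuotientGroup.ker_mk'] at h2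
  let cnt : ℕ → ℕ → ℕ := fun d i =>
    (T.filter fun e => e.2 - e.1 < d ∨ (e.2 - e.1 = d ∧ e.1 < i)).card
  have hind : ∀ d, 1 ≤ d → ∀ i, (Y d 0 ⊔ Φ).index ≤ p ^ cnt d 0 → (Y d i ⊔ Φ).index ≤ p ^ cnt d i := by
    intro d hd i h
    induction i with
    | zero => exact h
    | succ i ih =>
      refine (hstep d i).trans ((Nat.mul_le_mul_right _ ih).trans ?_)
      split_ifs with hT
      · rcases hT with hT | hT
        swap; · omega
        rw [← pow_succ]
        refine Nat.pow_le_pow_right hp.out.pos ?_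
        refine Finset.card_lt_card ((Finset.ssubset_iff_of_subset ?_).mpr
          ⟨(i, i + d), Finset.mem_filter.mpr ⟨hT, Or.inr ⟨by simp, by simp⟩⟩, fun h' => ?_⟩)
        · intro e he
          simp only [Finset.mem_filter] at he ⊢
          exact ⟨he.1, by omega⟩
        · simp only [Finset.mem_filter] at h'
          omega
      · rw [mul_one]
        refine Nat.pow_le_pow_right hp.out.pos (Finset.card_le_card fun e he => ?_)
        simp only [Finset.mem_filter] at he ⊢
        exact ⟨he.1, by omega⟩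
  have hall : ∀ d, (Y (d + 1) 0 ⊔ Φ).index ≤ p ^ cnt (d + 1) 0 := by
    intro d
    induction d with
    | zero => rw [htop, top_sup_eq, Subgroup.index_top]; exact Nat.one_le_pow _ _ hp.out.pos
    | succ d ih =>
      have h1 := hind (d + 1) (by omega) a ih
      refine le_trans ?_ (h1.trans (Nat.pow_le_pow_right hp.out.pos (Finset.card_le_card fun e he => ?_)))
      · exact Nat.le_of_dvd (Nat.pos_of_ne_zero Subgroup.index_ne_zero_of_finite)
          (Subgroup.index_dvd_of_le (sup_le_sup_right (hnext (d + 1)) _))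
      · simp only [Finset.mem_filter] at he ⊢
        exact ⟨he.1, by omega⟩
  have hfin : Φ.index ≤ p ^ T.card := by
    have := hall a
    rw [hlast, bot_sup_eq] at this
    exact this.trans (Nat.pow_le_pow_right hp.out.pos (Finset.card_le_card (Finset.filter_subset _ _)))
  obtain ⟨S, hS, hcl⟩ := exists_generators hX T.card hfin
  exact ⟨S, by omega, hcl⟩

end Flag

end Cfsg.Agent.Lib.Elem70.GenBound
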