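/-
Lifting an element and a normaliser of its cyclic subgroup through a coprime normal subgroup.
-/
import Cfsg.Agent.Lib.Coprime.Conjugacy
import Cfsg.Agent.Lib.Elem70.Basic
import Cfsg.Agent.Lib.Cores.Basic
import Cfsg.Agent.Lib.Involutions.BaerSuzuki

set_option autoImplicit false
set_option linter.style.haveILetI false

namespace Cfsg.Agent.Lib.Elem70

open Subgroup
open scoped Pointwise

variable {G : Type*} [Group G]

theorem exists_lift_coprime [Finite G] (N : Subgroup G) [N.Normal] (y : G ⧸ N)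
    (hcop : (orderOf y).Coprime (Nat.card N)) :
    ∃ x : G, QuotientGroup.mk' N x = y ∧ orderOf x = orderOf y := by
  obtain ⟨x₀, hx₀⟩ := QuotientGroup.mk'_surjective N y
  have hn : x₀ ^ (orderOf y * Nat.card N) = 1 := by
    have h1 : x₀ ^ orderOf y ∈ N := by
      rw [← QuotientGroup.eq_one_iff]
      show QuotientGroup.mk' N (x₀ ^ orderOf y) = 1
      rw [map_pow, hx₀, pow_orderOf_eq_one]
    rw [pow_mul]
    exact congrArg Subtype.val (pow_card_eq_one' (G := N) (x := ⟨_, h1⟩))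
  set n := orderOf y
  set m := Nat.card N
  refine ⟨x₀ ^ ((m : ℤ) * n.gcdB m), ?_, ?_⟩
  · rw [map_zpow, hx₀]
    have h : (n : ℤ) * n.gcdA m + (m : ℤ) * n.gcdB m = 1 := by
      rw [← Nat.gcd_eq_gcd_ab, hcop.gcd_eq_one]; rfl
    calc y ^ ((m : ℤ) * n.gcdB m) = (y ^ (n : ℤ)) ^ n.gcdA m * y ^ ((m : ℤ) * n.gcdB m) := by
          simp [n, pow_orderOf_eq_one]
      _ = y := by
          conv_rhs => rw [← zpow_one y, ← h, zpow_add, zpow_mul]
  · refine Nat.dvd_antisymm (orderOf_dvd_of_pow_eq_one ?_) ?_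
    · rw [← zpow_natCast, ← zpow_mul, show (m : ℤ) * n.gcdB m * (n : ℤ)
        = ((n * m : ℕ) : ℤ) * n.gcdB m by push_cast; ring, zpow_mul, zpow_natCast, hn, one_zpow]
    · have h := orderOf_map_dvd (QuotientGroup.mk' N) (x₀ ^ ((m : ℤ) * n.gcdB m))
      have h2 : QuotientGroup.mk' N (x₀ ^ ((m : ℤ) * n.gcdB m)) = y := by
        rw [map_zpow, hx₀]
        conv_rhs => rw [← zpow_one y, show (1 : ℤ) = (n : ℤ) * n.gcdA m + (m : ℤ) * n.gcdB m by
          rw [← Nat.gcd_eq_gcd_ab, hcop.gcd_eq_one]; rfl]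
        rw [zpow_add, zpow_mul y (n : ℤ)]
        simp [n, pow_orderOf_eq_one]
      rwa [h2] at h

/-- A normaliser of `⟨x̄⟩` lifts to a normaliser of `⟨x⟩` when the kernel is coprime. -/
theorem exists_lift_normalizer [Finite G] (N : Subgroup G) [N.Normal] {x : G}
    (hcop : (orderOf x).Coprime (Nat.card N)) {gb : G ⧸ N}
    (hg : gb * QuotientGroup.mk' N x * gb⁻¹ ∈ Subgroup.zpowers (QuotientGroup.mk' N x)) :
    ∃ g : G, QuotientGroup.mk' N g = gb ∧ g * x * g⁻¹ ∈ Subgroup.zpowers x := by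
  obtain ⟨g₀, rfl⟩ := QuotientGroup.mk'_surjective N gb
  have hB : (Subgroup.zpowers x).map (MulAut.conj g₀).toMonoidHom ≤ Subgroup.zpowers x ⊔ N := by
    rw [MonoidHom.map_zpowers, Subgroup.zpowers_le]
    show g₀ * x * g₀⁻¹ ∈ _
    obtain ⟨i, hi⟩ := hg
    have h1 : (x ^ i)⁻¹ * (g₀ * x * g₀⁻¹) ∈ N := by
      rw [← QuotientGroup.eq_one_iff]
      show QuotientGroup.mk' N _ = 1
      rw [map_mul, map_inv, map_zpow, map_mul, map_mul, map_inv]
      exact inv_mul_eq_one.2 hi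
    have := Subgroup.mul_mem (Subgroup.zpowers x ⊔ N)
      (Subgroup.mem_sup_left (show x ^ i ∈ Subgroup.zpowers x from ⟨i, rfl⟩))
      (Subgroup.mem_sup_right h1)
    rwa [mul_inv_cancel_left] at this
  obtain ⟨k, hk, hkA⟩ := Coprime.exists_conj_eq_of_coprime (A := Subgroup.zpowers x)
    (K := N) Subgroup.le_normalizer_of_normal (by rwa [Nat.card_zpowers])
    (Or.inl inferInstance) hB (Subgroup.card_map_of_injective (MulAut.conj g₀).injective)
  refine ⟨k⁻¹ * g₀, ?_, ?_⟩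
  · rw [map_mul, map_inv, show QuotientGroup.mk' N k = 1 from (QuotientGroup.eq_one_iff k).2 hk,
      inv_one, one_mul]
  · have h1 : g₀ * x * g₀⁻¹ ∈ MulAut.conj k • Subgroup.zpowers x := by
      rw [hkA]; exact ⟨x, Subgroup.mem_zpowers x, rfl⟩
    rw [Coprime.mem_conj_smul] at h1
    simpa [mul_assoc] using h1

/-- If no element of odd prime order is real then the Sylow `2`-subgroup is normal. -/
theorem sylow_two_normal_of_no_real [Finite G]
    (h : ∀ (p : ℕ) (x g : G), p.Prime → p ≠ 2 → orderOf x = p → g * x * g⁻¹ ≠ x⁻¹)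
    (P : Sylow 2 G) : (P : Subgroup G).Normal := by
  haveI : Fact (Nat.Prime 2) := ⟨Nat.prime_two⟩
  set N := pCore 2 G with hN
  haveI : N.Normal := by rw [hN]; infer_instance
  have hQ : ¬ 2 ∣ Nat.card (G ⧸ N) := by
    intro hd
    obtain ⟨t, ht⟩ := exists_prime_orderOf_dvd_card' 2 hd
    obtain ⟨y, hy1, hyodd, hty⟩ := Involutions.BaerSuzuki.exists_odd_inverted t ht fun M hM hMp htM => by
      have h1 : M ≤ pCore 2 (G ⧸ N) := Cores.le_pCore (hN := hM) hMp
      have h2 : pCore 2 (G ⧸ N) = ⊥ := Cores.pCore_quotient_pCore 2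
      rw [h2] at h1
      have : t = 1 := Subgroup.mem_bot.1 (h1 htM)
      rw [this, orderOf_one] at ht
      omega
    obtain ⟨p, hp, hpd⟩ := Nat.exists_prime_and_dvd (n := orderOf y)
      (fun h => hy1 (orderOf_eq_one_iff.1 h))
    have hp2 : p ≠ 2 := by
      rintro rfl
      exact Nat.not_even_iff_odd.2 hyodd (even_iff_two_dvd.2 hpd)
    set z := y ^ (orderOf y / p)
    have hz : orderOf z = p := by
      rw [orderOf_pow_of_dvd (Nat.div_pos (Nat.le_of_dvd (orderOf_pos y) hpd) hp.pos).ne'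
        (Nat.div_dvd_of_dvd hpd), Nat.div_div_self hpd (orderOf_pos y).ne']
    have htz : t * z * t⁻¹ = z⁻¹ := by
      rw [← conj_pow, hty, inv_pow]
    obtain ⟨k, hk⟩ := IsPGroup.iff_card.1 (Cores.pCore_isPGroup (G := G) 2)
    have hcop : p.Coprime (Nat.card N) := by
      rw [hN, hk]; exact Nat.Coprime.pow_right k ((Nat.coprime_primes hp Nat.prime_two).2 hp2)
    obtain ⟨x, hx, hxo⟩ := exists_lift_coprime N z (hz.symm ▸ hcop)
    rw [hz] at hxo
    obtain ⟨g, hg, hgx⟩ := exists_lift_normalizer N (hxo.symm ▸ hcop) (gb := t)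
      (by rw [hx, htz]; exact Subgroup.inv_mem _ (Subgroup.mem_zpowers z))
    obtain ⟨i, hi⟩ := hgx
    refine h p x g hp hp2 hxo ?_
    rw [← hi]
    have h1 : z ^ i = z ^ (-1 : ℤ) := by
      rw [zpow_neg_one, ← htz, ← hx, ← map_zpow, show x ^ i = g * x * g⁻¹ from hi, map_mul, map_mul,
        map_inv, hg]
    rw [← zpow_neg_one]
    rw [zpow_eq_zpow_iff_modEq, hz] at h1
    exact zpow_eq_zpow_iff_modEq.2 (hxo.symm ▸ h1)
  have hle : N ≤ P := Cores.pCore_le_sylow P
  have heq : (P : Subgroup G) = N := by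
    refine le_antisymm (fun a ha => ?_) hle
    rw [← QuotientGroup.eq_one_iff]
    obtain ⟨j, hj⟩ := P.isPGroup' ⟨a, ha⟩
    have h1 : (QuotientGroup.mk a : G ⧸ N) ^ 2 ^ j = 1 := by
      rw [← QuotientGroup.mk_pow, show a ^ 2 ^ j = 1 from congrArg Subtype.val hj]; rfl
    exact orderOf_eq_one_iff.1 (Nat.eq_one_of_dvd_coprimes
      (Nat.Coprime.pow_left j (Nat.prime_two.coprime_iff_not_dvd.2 hQ))
      (orderOf_dvd_of_pow_eq_one h1) (orderOf_dvd_natCard _))
  rw [heq]; infer_instance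

end Cfsg.Agent.Lib.Elem70
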