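import Cfsg.Agent.Lib.Transfer.Fusion
import Cfsg.Agent.Lib.Transfer.Frobenius
import Cfsg.Agent.Lib.Fusion.Alperin
import Cfsg.Agent.Lib.Coprime.Glauberman
import Cfsg.Agent.Lib.Frobenius.PComplement
import Cfsg.Agent.Lib.PGroups.Thompson
import Mathlib

/-!
Solvability criteria for groups with a nilpotent maximal subgroup.
-/

set_option autoImplicit false

namespace Cfsg.Agent.Lib.Elem70.NilpotentMaximal

open scoped commutatorElement Pointwise
open Subgroup

universe u
variable {G : Type u} [Group G] [Finite G]

theorem isNilpotent_of_le {A M : Subgroup G} [Group.IsNilpotent M] (h : A ≤ M) :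
    Group.IsNilpotent A := by
  have := (subgroupOfEquivOfLe h)
  exact Group.nilpotent_of_mulEquiv this

omit [Finite G] in
theorem conj_fix {c r : G} (h : c * (c * r * c⁻¹) = c * r * c⁻¹ * c) : c * r * c⁻¹ = r :=
  mul_left_cancel (h.trans (by group))

/-- A subgroup normalized by a core-free maximal subgroup `M` and inside it has normalizer `M`. -/
theorem normalizer_eq {M X : Subgroup G} (hmax : IsCoatom M)
    (hcore : ∀ K : Subgroup G, K.Normal → K ≤ M → K = ⊥) (hXM : X ≤ M) (hX : X ≠ ⊥)
    (h : M ≤ normalizer (X : Set G)) : normalizer (X : Set G) = M := by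
  rcases hmax.le_iff.mp h with h1 | h1
  · exact absurd (hcore X (normalizer_eq_top_iff.mp h1) hXM) hX
  · exact h1

/-- The `p`-part of a nilpotent subgroup: a Sylow subgroup, normal, with every element of `M` a
product of an element of it and an element centralizing it. -/
theorem exists_sylow_part {M : Subgroup G} [Group.IsNilpotent M] (p : ℕ) [Fact p.Prime] :
    ∃ S : Subgroup G, S ≤ M ∧ IsPGroup p S ∧ Nat.card S = p ^ (Nat.card M).factorization p ∧
      M ≤ normalizer (S : Set G) ∧
      ∀ m ∈ M, ∃ s ∈ S, ∃ h ∈ M, m = s * h ∧ ∀ x ∈ S, h * x = x * h := by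
  obtain ⟨S, N, hN, hc⟩ := Transfer.Frobenius.hasNormalPComplement_of_isNilpotent (G := M) (p := p)
  have hS : (S : Subgroup M).Normal := Sylow.normal_of_normalizerCondition Group.normalizerCondition_of_isNilpotent S
  refine ⟨(S : Subgroup M).map M.subtype, map_subtype_le _, S.2.map _,
    Coprime.card_sylow_map S, ?_, fun m hm => ?_⟩
  · intro g hg
    rw [mem_normalizer_iff]
    intro x
    constructor
    · rintro ⟨a, ha, rfl⟩
      exact ⟨⟨g, hg⟩ * a * ⟨g, hg⟩⁻¹, hS.conj_mem a ha _, by simp⟩
    · rintro ⟨a, ha, he⟩
      refine ⟨⟨g, hg⟩⁻¹ * a * ⟨g, hg⟩⁻¹⁻¹, hS.conj_mem a ha _, ?_⟩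
      simp only [map_mul, map_inv, inv_inv]
      rw [he]
      simp [mul_assoc]
  · have hc' : IsComplement' (S : Subgroup M) N := hc.symm
    obtain ⟨⟨s, n⟩, he⟩ := hc'.existsUnique (⟨m, hm⟩ : M) |>.exists
    refine ⟨_, ⟨(s : M), s.2, rfl⟩, ((n : M) : G), (n : M).2, ?_, ?_⟩
    · exact (congrArg Subtype.val he).symm
    · rintro _ ⟨a, ha, rfl⟩
      have hd : Disjoint (S : Subgroup M) N := hc'.disjoint
      exact congrArg Subtype.val ((commute_of_normal_of_disjoint _ _ hS hN hd a n ha n.2).symm.eq)

/-- Control of fusion in a Sylow subgroup of class at most two inside a core-free nilpotent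
maximal subgroup. -/
theorem controls_of_class_two {M : Subgroup G} (hmax : IsCoatom M)
    (hcore : ∀ K : Subgroup G, K.Normal → K ≤ M → K = ⊥) {p : ℕ} [Fact p.Prime] (P : Sylow p G)
    (hPne : (P : Subgroup G) ≠ ⊥)
    (hPM : (P : Subgroup G) ≤ M) (hdec : ∀ m ∈ M, ∃ s ∈ (P : Subgroup G), ∃ h ∈ M, m = s * h ∧
      ∀ x ∈ (P : Subgroup G), h * x = x * h)
    (hcl : ∀ a ∈ (P : Subgroup G), ∀ b ∈ (P : Subgroup G), ∀ c ∈ (P : Subgroup G),
      c * ⁅a, b⁆ = ⁅a, b⁆ * c) :
    ∀ A : Subgroup G, A ≤ P → ∀ g : G, Fusion.Alperin.conjS g A ≤ P →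
      ∃ v ∈ (P : Subgroup G), ∀ a ∈ A, v * a * v⁻¹ = g * a * g⁻¹ := by
  classical
  suffices H : ∀ k, ∀ A : Subgroup G, A ≤ P → Nat.card (P : Subgroup G) - Nat.card A < k →
      ∀ g : G, Fusion.Alperin.conjS g A ≤ P →
      ∃ v ∈ (P : Subgroup G), ∀ a ∈ A, v * a * v⁻¹ = g * a * g⁻¹ from
    fun A hA g hg => H (Nat.card (P : Subgroup G) - Nat.card A + 1) A hA (Nat.lt_succ_self _) g hg
  intro k
  induction k with
  | zero => intro A _ h; omega
  | succ k ih =>
    intro A hA hk g hg
    have chain := Fusion.Alperin.alperin P A g hA hg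
    clear hg hA
    induction chain with
    | comp h₁ h₂ ih₁ ih₂ =>
      rename_i A g h
      obtain ⟨v, hv, hv'⟩ := ih₁ hk
      obtain ⟨w, hw, hw'⟩ := ih₂ (by rw [Fusion.Alperin.card_conjS]; exact hk)
      refine ⟨w * v, mul_mem hw hv, fun a ha => ?_⟩
      calc w * v * a * (w * v)⁻¹ = w * (v * a * v⁻¹) * w⁻¹ := by group
        _ = h * (g * a * g⁻¹) * h⁻¹ := by
            rw [hv' a ha]; exact hw' _ (Fusion.Alperin.conj_mem_conjS ha)
        _ = _ := by group
    | base hR hAR hn =>
      rename_i A R n
      obtain ⟨hRP, hfull, -⟩ := hR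
      set T := (P : Subgroup G) ⊓ centralizer (R : Set G) with hT
      by_cases hTR : T ≤ R
      · -- `R` contains the centre of `P`, so it is normalized by `M`
        have hPR : (P : Subgroup G) ≤ normalizer (R : Set G) := by
          intro x hx
          have hc : ∀ y ∈ (P : Subgroup G), ∀ r ∈ R, y * r * y⁻¹ ∈ R := by
            intro y hy r hr
            have hT' : ⁅y, r⁆ ∈ R := hTR ⟨commutatorElement_def y r ▸ Subgroup.mul_mem _ (Subgroup.mul_mem _ (Subgroup.mul_mem _ hy (hRP hr)) (Subgroup.inv_mem _ hy)) (Subgroup.inv_mem _ (hRP hr)),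
              mem_centralizer_iff.mpr fun c hc => hcl y hy r (hRP hr) c (hRP hc)⟩
            rw [show y * r * y⁻¹ = ⁅y, r⁆ * r by rw [commutatorElement_def]; group]
            exact mul_mem hT' hr
          rw [mem_normalizer_iff]
          intro r
          refine ⟨hc x hx r, fun h => ?_⟩
          simpa [mul_assoc] using hc x⁻¹ (inv_mem hx) _ h
        have hMR : M ≤ normalizer (R : Set G) := by
          intro m hm
          obtain ⟨s, hs, h, -, rfl, hcomm⟩ := hdec m hm
          refine mul_mem (hPR hs) (mem_normalizer_iff.mpr fun r => ?_)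
          constructor
          · intro hr; rwa [hcomm r (hRP hr), mul_inv_cancel_right]
          · intro hr
            have h' : h * r * h⁻¹ = r := conj_fix (hcomm _ (hRP hr))
            rwa [h'] at hr
        have hRne : R ≠ ⊥ := by
          rintro rfl
          apply hPne
          refine le_bot_iff.mp (le_trans ?_ hTR)
          intro x hx
          exact ⟨hx, mem_centralizer_iff.mpr fun c hc => by rw [mem_bot.mp hc, one_mul, mul_one]⟩
        rw [normalizer_eq hmax hcore (hRP.trans hPM) hRne hMR] at hn
        obtain ⟨s, hs, h, -, rfl, hcomm⟩ := hdec n hn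
        refine ⟨s, hs, fun a ha => ?_⟩
        calc s * a * s⁻¹ = s * (h * a * h⁻¹) * s⁻¹ := by
              rw [hcomm a (hRP (hAR ha)), mul_inv_cancel_right]
          _ = _ := by group
      · -- enlarge `R` by `C_P(R)`
        have hCN : centralizer (R : Set G) ≤ normalizer (R : Set G) := by
          intro c hc
          rw [mem_normalizer_iff]
          intro r
          constructor
          · intro hr; rwa [← mem_centralizer_iff.mp hc r hr, mul_inv_cancel_right]
          · intro hr
            have := mem_centralizer_iff.mp hc _ hr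
            have h' : c * r * c⁻¹ = r := conj_fix this.symm
            rwa [h'] at hr
        have hTp : IsPGroup p T := P.2.to_le inf_le_left
        have hTmax : ∀ U : Subgroup G, IsPGroup p U → U ≤ centralizer (R : Set G) → T ≤ U → U = T := by
          intro U hU hUC hTU
          obtain ⟨m, hm, hmU⟩ := Fusion.Alperin.exists_conj_le_of_maximal
            (N := normalizer (R : Set G)) (S := (P : Subgroup G) ⊓ normalizer (R : Set G))
            (P.2.to_le inf_le_left) inf_le_right (fun V hV hVN hSV => hfull V hV hVN hSV) hU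
            (hUC.trans hCN)
          have hsub : Fusion.Alperin.conjS m U ≤ T := by
            refine le_inf (hmU.trans inf_le_left) ?_
            intro x hx
            rw [mem_centralizer_iff]
            intro r hr
            have h1 := mem_centralizer_iff.mp (hUC (Fusion.Alperin.mem_conjS.mp hx)) (m⁻¹ * r * m)
              ((mem_normalizer_iff''.mp hm r).mp hr)
            simpa [mul_assoc] using congrArg (fun t => m * t * m⁻¹) h1
          refine (eq_of_le_of_card_ge hTU ?_).symm
          rw [← Fusion.Alperin.card_conjS m U]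
          exact card_le_of_le hsub
        have hnT : Fusion.Alperin.conjS n T ≤ centralizer (R : Set G) := by
          intro x hx
          rw [mem_centralizer_iff]
          intro r hr
          have h1 := mem_centralizer_iff.mp (mem_inf.mp (Fusion.Alperin.mem_conjS.mp hx)).2 (n⁻¹ * r * n)
              ((mem_normalizer_iff''.mp hn r).mp hr)
          simpa [mul_assoc] using congrArg (fun t => n * t * n⁻¹) h1
        obtain ⟨c, hc, hcT⟩ := Fusion.Alperin.exists_conj_le_of_maximal (N := centralizer (R : Set G)) hTp
          inf_le_right hTmax (show IsPGroup p (Fusion.Alperin.conjS n T) from hTp.map _) hnT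
        rw [← Fusion.Alperin.conjS_mul] at hcT
        have hcnR : Fusion.Alperin.conjS (c * n) R = R :=
          Fusion.Alperin.conjS_eq_of_mem_normalizer (mul_mem (hCN hc) hn)
        have hbig : Nat.card (P : Subgroup G) - Nat.card (R ⊔ T : Subgroup G) < k := by
          have h1 : Nat.card R < Nat.card (R ⊔ T : Subgroup G) := by
            by_contra hh
            have := eq_of_le_of_card_ge (le_sup_left : R ≤ R ⊔ T) (Nat.not_lt.mp hh)
            exact hTR (this ▸ le_sup_right)
          have h2 := card_le_of_le (sup_le hRP inf_le_left : R ⊔ T ≤ P)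
          have h3 := card_le_of_le hAR
          omega
        obtain ⟨v, hv, hv'⟩ := ih (R ⊔ T) (sup_le hRP inf_le_left) hbig (c * n) (by
          rw [Fusion.Alperin.conjS, Subgroup.map_sup]
          exact sup_le (hcnR.le.trans hRP) (hcT.trans inf_le_left))
        refine ⟨v, hv, fun a ha => ?_⟩
        rw [hv' a (mem_sup_left (hAR ha))]
        have h1 := mem_centralizer_iff.mp hc _ ((mem_normalizer_iff.mp hn a).mp (hAR ha))
        calc c * n * a * (c * n)⁻¹ = c * (n * a * n⁻¹) * c⁻¹ := by group
          _ = n * a * n⁻¹ := by rw [← h1, mul_inv_cancel_right]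

/-- The two sufficient conditions, packaged as one. -/
def Good (M : Subgroup G) : Prop :=
  Odd (Nat.card M) ∨ Group.nilpotencyClass M ≤ 2

theorem hasNormalPComplement {M : Subgroup G} [Group.IsNilpotent M] (hmax : IsCoatom M)
    (hcore : ∀ K : Subgroup G, K.Normal → K ≤ M → K = ⊥) (hgood : Good M)
    {p : ℕ} [hp : Fact p.Prime] (hdvd : p ∣ Nat.card M) :
    Cfsg.HasNormalPComplement p G ∧ ∃ P : Sylow p G, (P : Subgroup G) ≤ M := by
  obtain ⟨S, hSM, hSp, hScard, hMS, hdec⟩ := exists_sylow_part (M := M) p
  have hS1 : 1 < Nat.card S := by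
    rw [hScard]
    exact Nat.one_lt_pow ((hp.out.dvd_iff_one_le_factorization Nat.card_pos.ne').mp hdvd |> Nat.one_le_iff_ne_zero.mp) hp.out.one_lt
  have hSne : S ≠ ⊥ := fun h => by rw [h, card_bot] at hS1; omega
  obtain ⟨P, hSP⟩ := hSp.exists_le_sylow
  have hPS : (P : Subgroup G) = S := by
    refine (le_antisymm hSP ?_).symm
    by_contra h
    have hlt : S < (P : Subgroup G) := lt_of_le_not_ge hSP h
    have h2 := Fusion.Alperin.lt_inf_normalizer P.2 hlt
    rw [normalizer_eq hmax hcore hSM hSne hMS] at h2
    have hU : IsPGroup p (P ⊓ M : Subgroup G) := P.2.to_le inf_le_left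
    obtain ⟨j, hj⟩ := IsPGroup.iff_card.mp hU
    have h3 : p ^ j ∣ p ^ (Nat.card M).factorization p := by
      have h4 := card_dvd_of_le (inf_le_right : (P : Subgroup G) ⊓ M ≤ M)
      rw [hj] at h4
      exact pow_dvd_pow p ((hp.out.pow_dvd_iff_le_factorization Nat.card_pos.ne').mp h4)
    have h5 := Set.ncard_lt_ncard (SetLike.coe_ssubset_coe.mpr h2)
    rw [← Nat.card_coe_set_eq, ← Nat.card_coe_set_eq] at h5
    change Nat.card S < Nat.card (P ⊓ M : Subgroup G) at h5
    rw [hScard, hj] at h5
    exact absurd (Nat.le_of_dvd (pow_pos hp.out.pos _) h3) (not_le.mpr h5)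
  refine ⟨?_, P, hPS ▸ hSM⟩
  rcases hgood with hodd | hcl
  · have hp2 : p ≠ 2 := by
      rintro rfl
      exact Nat.not_even_iff_odd.mpr hodd (even_iff_two_dvd.mpr hdvd)
    refine Frobenius.PComplement.hasNormalPComplement_of_thompson hp2 P ⟨?_, ?_⟩
    · have hJ : M ≤ normalizer (Cfsg.thompsonSubgroupOf p (P : Subgroup G) : Set G) := by
        intro g hg
        apply Fusion.Alperin.mem_normalizer_of_conjS_eq
        rw [Fusion.Alperin.conjS, PGroups.thompsonSubgroupOf_conj]
        congr 1
        rw [hPS]
        exact Fusion.Alperin.conjS_eq_of_mem_normalizer (hMS hg)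
      rw [normalizer_eq hmax hcore
        ((PGroups.thompsonSubgroupOf_le p _).trans (hPS ▸ hSM))
        (Frobenius.PComplement.thompsonSubgroupOf_ne_bot P.2 (hPS ▸ hSne)) hJ]
      exact Transfer.Frobenius.hasNormalPComplement_of_isNilpotent
    · set Z := (P : Subgroup G) ⊓ centralizer (P : Set G) with hZ
      have hZne : Z ≠ ⊥ := by
        intro h
        have hne : Nontrivial (P : Subgroup G) := (nontrivial_iff_ne_bot _).mpr (hPS ▸ hSne)
        obtain ⟨z, hz, hz1⟩ := (bot_or_exists_ne_one _).resolve_left (P.2.bot_lt_center (G := (P : Subgroup G))).ne'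
        apply hz1
        have : (z : G) ∈ Z := ⟨z.2, mem_centralizer_iff.mpr fun c hc =>
          congrArg Subtype.val (mem_center_iff.mp hz ⟨c, hc⟩)⟩
        rw [h, mem_bot] at this
        exact Subtype.ext this
      have hMZ : M ≤ normalizer (Z : Set G) := by
        intro g hg
        apply Fusion.Alperin.mem_normalizer_of_conjS_eq
        have hgP : Fusion.Alperin.conjS g (P : Subgroup G) = P := by
          rw [hPS]; exact Fusion.Alperin.conjS_eq_of_mem_normalizer (hMS hg)
        ext x
        rw [Fusion.Alperin.mem_conjS, hZ, mem_inf, mem_inf, ← Fusion.Alperin.mem_conjS, hgP]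
        refine and_congr_right fun _ => ?_
        rw [mem_centralizer_iff, mem_centralizer_iff]
        constructor
        · intro h c hc
          have h1 : g⁻¹ * c * g ∈ (P : Subgroup G) := Fusion.Alperin.mem_conjS.mp (hgP.symm ▸ hc)
          simpa [mul_assoc] using congrArg (fun t => g * t * g⁻¹) (h _ h1)
        · intro h c hc
          have h1 : g * c * g⁻¹ ∈ (P : Subgroup G) := hgP ▸ Fusion.Alperin.conj_mem_conjS hc
          have h2 := congrArg (fun t => g⁻¹ * t * g) (h _ h1)
          simpa [mul_assoc] using h2
      have hle : centralizer (Z : Set G) ≤ M := by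
        rw [← normalizer_eq hmax hcore (inf_le_left.trans (hPS ▸ hSM)) hZne hMZ]
        intro c hc
        rw [mem_normalizer_iff]
        intro r
        constructor
        · intro hr; rwa [← mem_centralizer_iff.mp hc r hr, mul_inv_cancel_right]
        · intro hr
          have h0 := (mem_centralizer_iff.mp hc _ hr).symm
          have h' : c * r * c⁻¹ = r := by
            have h1 : c * (c * r * c⁻¹) = c * r := by rw [h0]; group
            exact mul_left_cancel h1
          rwa [h'] at hr
      haveI := isNilpotent_of_le hle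
      exact Transfer.Frobenius.hasNormalPComplement_of_isNilpotent
  · apply Transfer.Fusion.hasNormalPComplement_of_controls P
    intro x hx g hgx
    have hcl' : ∀ a ∈ (P : Subgroup G), ∀ b ∈ (P : Subgroup G), ∀ c ∈ (P : Subgroup G),
        c * ⁅a, b⁆ = ⁅a, b⁆ * c := by
      intro a ha b hb c hc
      rw [hPS] at ha hb hc
      have h2 := (Subgroup.lowerCentralSeries_eq_bot_iff_nilpotencyClass_le (G := M)).mpr hcl
      have : ⁅⁅(⟨a, hSM ha⟩ : M), (⟨b, hSM hb⟩ : M)⁆, (⟨c, hSM hc⟩ : M)⁆ ∈ (⊤ : Subgroup M).lowerCentralSeries 2 :=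
        commutator_mem_commutator (commutator_mem_commutator (mem_top _) (mem_top _)) (mem_top _)
      rw [h2, mem_bot, commutatorElement_eq_one_iff_mul_comm] at this
      exact (congrArg Subtype.val this).symm
    obtain ⟨v, hv, h⟩ := controls_of_class_two hmax hcore P (hPS ▸ hSne) (hPS ▸ hSM) (hPS ▸ hdec) hcl'
      (zpowers x) (zpowers_le.mpr hx) g (by
        rw [Fusion.Alperin.conjS, MonoidHom.map_zpowers]; exact zpowers_le.mpr hgx)
    exact ⟨v, hv, h x (mem_zpowers x)⟩

theorem isSolvable_of_good : ∀ (n : ℕ) {G : Type u} [Group G] [Finite G], Nat.card G ≤ n →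
    ∀ M : Subgroup G, IsCoatom M → Group.IsNilpotent M → Good M → Group.IsSolvable G := by
  intro n
  induction n with
  | zero => intro G _ _ h; have := Nat.card_pos (α := G); omega
  | succ n ih =>
    intro G _ _ hn M hmax hnil hgood
    haveI := hnil
    by_cases hcore : ∀ K : Subgroup G, K.Normal → K ≤ M → K = ⊥
    · have hcard : ∀ p : ℕ, p.Prime → p ∣ Nat.card M → ¬ p ∣ M.index := by
        intro p hp hd
        haveI := Fact.mk hp
        obtain ⟨-, P, hP⟩ := hasNormalPComplement hmax hcore hgood hd
        exact fun h => P.not_dvd_index (h.trans (index_dvd_of_le hP))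
      have hHall : (Nat.card M).Coprime M.index :=
        Nat.coprime_of_dvd fun p hp h1 h2 => hcard p hp h1 h2
      obtain ⟨K, hK, hKM⟩ := Transfer.Frobenius.exists_normal_complement_of_forall M hHall fun p hp hd => by
        haveI := Fact.mk hp
        exact (hasNormalPComplement hmax hcore hgood hd).1
      have hMK : M ≤ normalizer (K : Set G) := normalizer_eq_top (H := K) ▸ le_top
      have hKne : K ≠ ⊥ := by
        rintro rfl
        exact hmax.1 (eq_top_of_card_eq _ (by simpa using hKM.card_mul))
      have hKcard : Nat.card K = M.index :=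
        (Nat.eq_of_mul_eq_mul_right Nat.card_pos (hKM.card_mul.trans M.index_mul_card.symm))
      set q := (Nat.card K).minFac
      haveI hq : Fact q.Prime := ⟨Nat.minFac_prime fun h => hKne (card_eq_one.mp h)⟩
      obtain ⟨Q, hQ⟩ := Coprime.exists_invariant_sylow hMK (hKcard ▸ hHall)
        (Or.inl inferInstance) q
      set Q' := (Q : Subgroup K).map K.subtype with hQ'
      have hQK : Q' = K := by
        refine le_antisymm (map_subtype_le _) ?_
        have hQne : Q' ≠ ⊥ := by
          intro h
          have h1 := Coprime.card_sylow_map Q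
          rw [← hQ', h, card_bot] at h1
          have := (hq.out.dvd_iff_one_le_factorization Nat.card_pos.ne').mp (Nat.minFac_dvd (Nat.card K))
          exact absurd h1.symm (Nat.one_lt_pow (by omega) hq.out.one_lt).ne'
        have htop : M ⊔ Q' = ⊤ := by
          refine hmax.2 _ (lt_of_le_of_ne le_sup_left fun h => hQne ?_)
          rw [← le_bot_iff, ← disjoint_iff.mp hKM.disjoint]
          exact le_inf (map_subtype_le _) (h.symm ▸ le_sup_right)
        intro k hk
        have hk' : k ∈ M ⊔ Q' := htop ▸ mem_top k
        obtain ⟨m, hm, q', hq', rfl⟩ := Coprime.exists_mul_of_mem_sup hQ hk'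
        have hm1 : m = 1 := mem_bot.mp (disjoint_iff.mp hKM.disjoint ▸ ⟨by
          simpa using mul_mem hk (inv_mem (map_subtype_le _ hq' : q' ∈ K)), hm⟩)
        simpa [hm1] using hq'
      have hKsolv : Group.IsSolvable K := by
        have h : IsPGroup q K := hQK ▸ Q.2.map _
        haveI := h.isNilpotent
        infer_instance
      haveI := hK
      haveI := hKsolv
      haveI : Group.IsSolvable (G ⧸ K) :=
        Group.isSolvable_of_surjective (f := (hKM.symm.QuotientMulEquiv).symm.toMonoidHom)
          (hKM.symm.QuotientMulEquiv).symm.surjective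
      exact Group.isSolvable_of_ker_le_range K.subtype (QuotientGroup.mk' K) (by simp)
    · push Not at hcore
      obtain ⟨K, hK, hKM, hKne⟩ := hcore
      haveI := hK
      have hKsolv : Group.IsSolvable K := by haveI := isNilpotent_of_le hKM; infer_instance
      let π := QuotientGroup.mk' K
      have hsurj : Function.Surjective π := QuotientGroup.mk'_surjective K
      have hcomap : (M.map π).comap π = M := by
        rw [QuotientGroup.comap_map_mk', sup_eq_right.mpr hKM]
      have hmax' : IsCoatom (M.map π) := by
        refine ⟨fun h => hmax.1 ?_, fun B hB => ?_⟩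
        · rw [← hcomap, h, comap_top]
        · have h1 : M < B.comap π := by
            rw [← hcomap]; exact (comap_lt_comap_of_surjective hsurj).mpr hB
          rw [← map_comap_eq_self_of_surjective hsurj B, hmax.2 _ h1, map_top_of_surjective π hsurj]
      let f : M →* M.map π := π.subgroupMap M
      have hf : Function.Surjective f := MonoidHom.subgroupMap_surjective π M
      haveI : Group.IsNilpotent (M.map π) := Group.nilpotent_of_surjective f hf
      have hgood' : Good (M.map π) := by
        rcases hgood with h | h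
        · exact Or.inl (h.of_dvd_nat (card_map_dvd _ _))
        · exact Or.inr ((nilpotencyClass_le_of_surjective f hf).trans h)
      have hlt : Nat.card (G ⧸ K) ≤ n := by
        have h1 := card_eq_card_quotient_mul_card_subgroup K
        have h2 : 1 < Nat.card K := (one_lt_card_iff_ne_bot K).mpr hKne
        have h3 : 0 < Nat.card (G ⧸ K) := Nat.card_pos
        nlinarith
      haveI := ih hlt _ hmax' inferInstance hgood'
      exact Group.isSolvable_of_ker_le_range K.subtype (QuotientGroup.mk' K) (by simp)

end Cfsg.Agent.Lib.Elem70.NilpotentMaximal
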