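/-
`π`-closed groups and the homogeneity condition on `q`-subgroups, `q ∉ π`.
-/
import Mathlib.GroupTheory.Sylow
import Mathlib.GroupTheory.SchurZassenhaus
import Cfsg.Agent.Lib.Elem70.Basic

set_option autoImplicit false
set_option linter.style.haveILetI false
set_option linter.unusedSectionVars false

namespace Cfsg.Agent.Lib.Elem70.PiClosed

open Subgroup
open scoped Pointwise

variable {G : Type*} [Group G] {π : Set ℕ}

/-- All prime divisors in `π`. -/
def PiNum (π : Set ℕ) (n : ℕ) : Prop := ∀ q : ℕ, q.Prime → q ∣ n → q ∈ π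

/-- No prime divisor in `π`. -/
def CoPiNum (π : Set ℕ) (n : ℕ) : Prop := ∀ q : ℕ, q.Prime → q ∣ n → q ∉ π

theorem eq_one_of_pi {n : ℕ} (h : PiNum π n) (h' : CoPiNum π n) : n = 1 := by
  by_contra hne
  obtain ⟨q, hq, hd⟩ := Nat.exists_prime_and_dvd hne
  exact h' q hq hd (h q hq hd)

theorem coprime_of_pi {m n : ℕ} (h : PiNum π m) (h' : CoPiNum π n) : m.Coprime n :=
  Nat.coprime_of_dvd fun q hq h1 h2 => h' q hq h2 (h q hq h1)

theorem PiNum.mul {m n : ℕ} (h : PiNum π m) (h' : PiNum π n) : PiNum π (m * n) :=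
  fun q hq hd => (hq.dvd_mul.1 hd).elim (h q hq) (h' q hq)

/-- The `π`-elements form a subgroup. -/
def Closed (π : Set ℕ) (G : Type*) [Group G] : Prop :=
  ∃ K : Subgroup G, ∀ x : G, x ∈ K ↔ PiNum π (orderOf x)

/-- `p`-elements (`p ∈ π`) normalising a `q`-subgroup (`q ∉ π`) centralise it. -/
def QHom (π : Set ℕ) (G : Type*) [Group G] : Prop :=
  ∀ (Q : Subgroup G) (q : ℕ), q.Prime → q ∉ π → IsPGroup q Q → ∀ (t : G) (p : ℕ), p.Prime → p ∈ π →
    (∃ k : ℕ, t ^ p ^ k = 1) → t ∈ Subgroup.normalizer (Q : Set G) →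
      t ∈ Subgroup.centralizer (Q : Set G)

theorem closed_iff [Finite G] :
    Closed π G ↔ ∃ L : Subgroup G, L.Normal ∧ PiNum π (Nat.card L) ∧ CoPiNum π L.index := by
  constructor
  · rintro ⟨K, hK⟩
    have hKn : K.Normal := ⟨fun x hx g => by
      rw [hK, show g * x * g⁻¹ = MulAut.conj g x from rfl, MulEquiv.orderOf_eq]
      exact (hK x).1 hx⟩
    refine ⟨K, hKn, fun q hq hd => ?_, fun q hq hd hqπ => ?_⟩
    · haveI : Fact q.Prime := ⟨hq⟩
      obtain ⟨x, hx⟩ := exists_prime_orderOf_dvd_card' q hd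
      exact (hK x.1).1 x.2 q hq (by rw [Subgroup.orderOf_coe, hx])
    · haveI : Fact q.Prime := ⟨hq⟩
      obtain ⟨P⟩ : Nonempty (Sylow q G) := inferInstance
      have hle : (P : Subgroup G) ≤ K := fun x hx => (hK x).2 fun r hr hrd => by
        obtain ⟨k, hk⟩ := P.isPGroup' ⟨x, hx⟩
        have h1 : x ^ q ^ k = 1 := congrArg Subtype.val hk
        rw [(Nat.prime_dvd_prime_iff_eq hr hq).1
          (hr.dvd_of_dvd_pow (hrd.trans (orderOf_dvd_of_pow_eq_one h1)))]
        exact hqπ
      exact P.not_dvd_index (hd.trans (Subgroup.index_dvd_of_le hle))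
  · rintro ⟨L, hL, hLπ, hLi⟩
    refine ⟨L, fun x => ⟨fun hx q hq hd => hLπ q hq (hd.trans (L.orderOf_dvd_natCard hx)),
      fun hx => ?_⟩⟩
    haveI := hL
    rw [← QuotientGroup.eq_one_iff]
    refine orderOf_eq_one_iff.1 (eq_one_of_pi (π := π) ?_ ?_)
    · exact fun q hq hd => hx q hq (hd.trans (orderOf_map_dvd (QuotientGroup.mk' L) x))
    · exact fun q hq hd => hLi q hq (hd.trans (_root_.orderOf_dvd_natCard _))

theorem qhom_subgroup (h : QHom π G) (S : Subgroup G) : QHom π S := by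
  intro Q q hq hqπ hQ t p hp hpπ ⟨k, hk⟩ ht
  have h1 := h (Q.map S.subtype) q hq hqπ (hQ.map _) (t : G) p hp hpπ
    ⟨k, congrArg Subtype.val hk⟩ (le_normalizer_map S.subtype ⟨t, ht, rfl⟩)
  rw [Subgroup.mem_centralizer_iff] at h1 ⊢
  exact fun a ha => Subtype.ext (h1 a ⟨a, ha, rfl⟩)

/-- From the index formulation to `QHom`. -/
theorem qhom_of_relIndex [Finite G]
    (h : ∀ H : Subgroup G, H ≠ ⊥ → (∀ p : ℕ, p.Prime → p ∣ Nat.card H → p ∉ π) →
      ∀ p : ℕ, p.Prime →
        p ∣ (Subgroup.centralizer (H : Set G)).relIndex (Subgroup.normalizer (H : Set G)) → p ∉ π) :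
    QHom π G := by
  intro Q q hq hqπ hQ t p hp hpπ ⟨k, hk⟩ ht
  haveI : Fact q.Prime := ⟨hq⟩
  rcases eq_or_ne Q ⊥ with rfl | hne
  · simp [Subgroup.mem_centralizer_iff]
  set C := (Subgroup.centralizer (Q : Set G)).subgroupOf (Subgroup.normalizer (Q : Set G))
  haveI hCn : C.Normal := by
    refine ⟨fun c hc m => ?_⟩
    show (m : G) * c * (m : G)⁻¹ ∈ Subgroup.centralizer (Q : Set G)
    rw [Subgroup.mem_centralizer_iff]
    intro z hz
    have hz' : (m : G)⁻¹ * z * m ∈ Q := by
      have := (Subgroup.mem_normalizer_iff.1 (inv_mem m.2) z).1 hz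
      simpa using this
    have h3 : (m : G)⁻¹ * z * m * (c : G) = (c : G) * ((m : G)⁻¹ * z * m) :=
      Subgroup.mem_centralizer_iff.1 hc _ hz'
    calc z * ((m : G) * c * (m : G)⁻¹) = (m : G) * ((m : G)⁻¹ * z * m * c) * (m : G)⁻¹ := by group
      _ = (m : G) * ((c : G) * ((m : G)⁻¹ * z * m)) * (m : G)⁻¹ := by rw [h3]
      _ = (m : G) * c * (m : G)⁻¹ * z := by group
  have hnd : ¬ p ∣ C.index := fun hd => h Q hne (fun r hr hrd => by
    obtain ⟨i, hi⟩ := IsPGroup.iff_card.1 hQ
    rw [hi] at hrd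
    rw [(Nat.prime_dvd_prime_iff_eq hr hq).1 (hr.dvd_of_dvd_pow hrd)]
    exact hqπ) p hp hd hpπ
  have : (⟨t, ht⟩ : Subgroup.normalizer (Q : Set G)) ∈ C := by
    rw [← QuotientGroup.eq_one_iff]
    refine orderOf_eq_one_iff.1 (Nat.eq_one_of_dvd_coprimes
      (Nat.Coprime.pow_left k (hp.coprime_iff_not_dvd.2 hnd)) (orderOf_dvd_of_pow_eq_one ?_)
      (_root_.orderOf_dvd_natCard _))
    rw [← QuotientGroup.mk_pow, show (⟨t, ht⟩ : Subgroup.normalizer (Q : Set G)) ^ p ^ k = 1 from
      Subtype.ext hk]; rfl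
  exact this

/-- From `π`-closedness to the index formulation. -/
theorem relIndex_of_closed [Finite G] (hG : Closed π G) (H : Subgroup G)
    (hH : ∀ p : ℕ, p.Prime → p ∣ Nat.card H → p ∉ π) (p : ℕ) (hp : p.Prime)
    (hd : p ∣ (Subgroup.centralizer (H : Set G)).relIndex (Subgroup.normalizer (H : Set G))) :
    p ∉ π := by
  intro hpπ
  haveI : Fact p.Prime := ⟨hp⟩
  obtain ⟨L, hL, hLπ, hLi⟩ := (closed_iff).1 hG
  haveI := hL
  obtain ⟨S⟩ : Nonempty (Sylow p (Subgroup.normalizer (H : Set G))) := inferInstance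
  refine S.not_dvd_index (hd.trans (Subgroup.index_dvd_of_le fun t ht => ?_))
  rw [Subgroup.mem_subgroupOf, Subgroup.mem_centralizer_iff]
  intro a ha
  obtain ⟨k, hk⟩ := S.isPGroup' ⟨t, ht⟩
  have htk : (t : G) ^ p ^ k = 1 := congrArg Subtype.val (congrArg Subtype.val hk :)
  have htL : (t : G) ∈ L := by
    rw [← QuotientGroup.eq_one_iff]
    refine orderOf_eq_one_iff.1 (eq_one_of_pi (π := π) (fun q hq hqd => ?_)
      (fun q hq hqd => hLi q hq (hqd.trans (_root_.orderOf_dvd_natCard _))))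
    have h1 := hqd.trans ((orderOf_map_dvd (QuotientGroup.mk' L) (t : G)).trans
      (orderOf_dvd_of_pow_eq_one htk))
    rw [(Nat.prime_dvd_prime_iff_eq hq hp).1 (hq.dvd_of_dvd_pow h1)]
    exact hpπ
  have hta : (t : G) * a * (t : G)⁻¹ * a⁻¹ ∈ H :=
    mul_mem ((Subgroup.mem_normalizer_iff.1 t.2 a).1 ha) (inv_mem ha)
  have hta' : (t : G) * a * (t : G)⁻¹ * a⁻¹ ∈ L := by
    rw [mul_assoc (t : G), mul_assoc (t : G)]
    exact mul_mem htL (hL.conj_mem _ (inv_mem htL) a)
  have h2 : orderOf ((t : G) * a * (t : G)⁻¹ * a⁻¹) = 1 :=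
    eq_one_of_pi (π := π) (fun q hq hqd => hLπ q hq (hqd.trans (L.orderOf_dvd_natCard hta')))
      (fun q hq hqd => hH q hq (hqd.trans (H.orderOf_dvd_natCard hta)))
  have h3 := orderOf_eq_one_iff.1 h2
  rw [mul_inv_eq_one, mul_inv_eq_iff_eq_mul] at h3
  exact h3.symm

/-- A `p`-element centralises a normal `π'`-section. -/
theorem centralizes_section [Finite G] (h : QHom π G) (L : Subgroup G) [L.Normal]
    (hL : PiNum π (Nat.card L)) (K : Subgroup (G ⧸ L)) [K.Normal] (hK : CoPiNum π (Nat.card K))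
    {p : ℕ} (hp : p.Prime) (hpπ : p ∈ π) (t : G) (ht : ∃ k : ℕ, t ^ p ^ k = 1) :
    QuotientGroup.mk' L t ∈ Subgroup.centralizer (K : Set (G ⧸ L)) := by
  haveI : Fact p.Prime := ⟨hp⟩
  let f := QuotientGroup.mk' L
  let C := K ⊓ Subgroup.centralizer {f t}
  suffices hC : K ≤ C by
    rw [Subgroup.mem_centralizer_iff]
    exact fun a ha => Subgroup.mem_centralizer_singleton_iff.1 (hC ha).2
  have hdvd : Nat.card K ∣ Nat.card C := by
    rw [← Nat.factorization_le_iff_dvd Nat.card_pos.ne' Nat.card_pos.ne', Finsupp.le_def]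
    intro q
    by_cases hq : q.Prime
    swap
    · simp [Nat.factorization_eq_zero_of_not_prime _ hq]
    by_cases hqd : q ∣ Nat.card K
    swap
    · simp [Nat.factorization_eq_zero_of_not_dvd hqd]
    haveI : Fact q.Prime := ⟨hq⟩
    have hqπ : q ∉ π := hK q hq hqd
    -- a `t`-invariant Sylow subgroup of `K`
    let act : Subgroup.zpowers (f t) →* MulAut K :=
      (MulAut.conjNormal (H := K)).comp (Subgroup.zpowers (f t)).subtype
    letI : MulDistribMulAction (Subgroup.zpowers (f t)) K := MulDistribMulAction.compHom K act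
    have hPG : IsPGroup p (Subgroup.zpowers (f t)) := by
      obtain ⟨k, hk⟩ := ht
      obtain ⟨j, -, hj⟩ := (Nat.dvd_prime_pow hp).1
        (orderOf_dvd_of_pow_eq_one (show f t ^ p ^ k = 1 by rw [← map_pow, hk, map_one]))
      exact IsPGroup.of_card (n := j) ((Nat.card_zpowers _).trans hj)
    have hnum : ¬ p ∣ Nat.card (Sylow q K) := by
      intro hd
      obtain ⟨P₀⟩ : Nonempty (Sylow q K) := inferInstance
      exact hK p hp (hd.trans (P₀.card_dvd_index.trans (Subgroup.index_dvd_card _))) hpπ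
    obtain ⟨Qb, hQb⟩ := hPG.nonempty_fixed_point_of_prime_not_dvd_card (Sylow q K) hnum
    set Qb' : Subgroup (G ⧸ L) := (Qb : Subgroup K).map K.subtype with hQb'
    have hfix : Qb'.map (MulAut.conj (f t)).toMonoidHom ≤ Qb' := by
      rintro _ ⟨_, ⟨w, hw, rfl⟩, rfl⟩
      have h1 : (⟨f t, Subgroup.mem_zpowers _⟩ : Subgroup.zpowers (f t)) • w
          ∈ ((⟨f t, Subgroup.mem_zpowers _⟩ : Subgroup.zpowers (f t)) • Qb : Sylow q K) :=
        Subgroup.smul_mem_pointwise_smul _ _ _ hw
      rw [hQb ⟨f t, Subgroup.mem_zpowers _⟩] at h1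
      exact ⟨_, h1, rfl⟩
    -- lift to `G`
    set T := Qb'.comap f with hT
    obtain ⟨Q⟩ : Nonempty (Sylow q T) := inferInstance
    let Q' : Subgroup G := (Q : Subgroup T).map T.subtype
    have hTn : t ∈ Subgroup.normalizer (T : Set G) := by
      have hle : T.map (MulAut.conj t).toMonoidHom ≤ T := by
        rintro _ ⟨w, hw, rfl⟩
        show f (t * w * t⁻¹) ∈ Qb'
        rw [map_mul, map_mul, map_inv]
        exact hfix ⟨f w, hw, rfl⟩
      have heq := Subgroup.eq_of_le_of_card_ge hle (le_of_eq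
        (Subgroup.card_map_of_injective (MulAut.conj t).injective).symm)
      rw [Subgroup.mem_normalizer_iff]
      intro w
      constructor
      · intro hw; exact hle ⟨w, hw, rfl⟩
      · intro hw
        rw [← heq] at hw
        obtain ⟨v, hv, hvw⟩ := hw
        have : v = w := by simpa using hvw
        exact this ▸ hv
    set M := Subgroup.normalizer (T : Set G)
    haveI : (T.subgroupOf M).Normal := Subgroup.normal_in_normalizer
    let eT : T.subgroupOf M ≃* T := Subgroup.subgroupOfEquivOfLe Subgroup.le_normalizer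
    let Q₂ : Sylow q (T.subgroupOf M) := Sylow.ofCard ((Q : Subgroup T).map eT.symm.toMonoidHom) (by
      rw [Subgroup.card_map_of_injective eT.symm.injective, Q.card_eq_multiplicity,
        Nat.card_congr eT.toEquiv])
    have hfr := Sylow.normalizer_sup_eq_top Q₂
    obtain ⟨n, hn, l, hl, hnl⟩ := Subgroup.mem_sup_of_normal_right.1
      (hfr.symm ▸ Subgroup.mem_top (⟨t, hTn⟩ : M))
    have hnQ : (n : G) ∈ Subgroup.normalizer (Q' : Set G) := by
      have h1 := le_normalizer_map M.subtype ⟨n, hn, rfl⟩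
      have h2 : ((Q₂ : Subgroup (T.subgroupOf M)).map (T.subgroupOf M).subtype).map M.subtype = Q' := by
        show (((Q : Subgroup T).map eT.symm.toMonoidHom).map (T.subgroupOf M).subtype).map M.subtype = _
        rw [Subgroup.map_map, Subgroup.map_map]
        rfl
      rwa [h2] at h1
    have htn : t = (n : G) * l := (congrArg Subtype.val hnl).symm
    -- remove the part of `l` outside `L`
    have hQQ : Q'.map f = Qb' := by
      have hQp : IsPGroup q Qb' := Qb.isPGroup'.map _
      have hsurj : Function.Surjective (f.subgroupComap Qb') :=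
        MonoidHom.subgroupComap_surjective_of_surjective f Qb' (QuotientGroup.mk'_surjective L)
      have h1 : (Q : Subgroup T).map (f.subgroupComap Qb') = ⊤ :=
        ((Q.mapSurjective hsurj).is_maximal' (hQp.of_equiv Subgroup.topEquiv.symm) le_top).symm
      show ((Q : Subgroup T).map T.subtype).map f = Qb'
      rw [Subgroup.map_map, show f.comp T.subtype = Qb'.subtype.comp (f.subgroupComap Qb') from
        MonoidHom.ext fun _ => rfl, ← Subgroup.map_map, h1, ← MonoidHom.range_eq_map, range_subtype]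
    obtain ⟨a, ha, hab⟩ : ∃ a ∈ Q', f a = f (l : G) := hQQ.ge (show (l : G) ∈ T from hl)
    have hnaQ : (n : G) * a ∈ Subgroup.normalizer (Q' : Set G) :=
      mul_mem hnQ (Subgroup.le_normalizer ha)
    obtain ⟨u, s, hu, -, hus, ⟨k', hk'⟩, hs⟩ := exists_primary_split hp ((n : G) * a)
    have huQ : u ∈ Subgroup.normalizer (Q' : Set G) := (Subgroup.zpowers_le.2 hnaQ) hu
    have hcent := h Q' q hq hqπ (Q.isPGroup'.map _) u p hp hpπ ⟨k', hk'⟩ huQ
    have hfu : f u = f t := by
      have hft : f t = f ((n : G) * a) := by rw [htn, map_mul, map_mul, hab]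
      have hss : f s = 1 := by
        have h1 : f s = (f u)⁻¹ * f t := by rw [hft, hus, map_mul]; group
        have hc : Commute (f u)⁻¹ (f t) := by
          obtain ⟨i, rfl⟩ := hu
          rw [map_zpow, hft]
          exact ((Commute.refl _).zpow_left i).inv_left
        obtain ⟨k, hk⟩ := ht
        have h2 : f s ^ p ^ (k + k') = 1 := by
          rw [h1, hc.mul_pow, inv_pow, ← map_pow, ← map_pow, pow_add, pow_mul, pow_mul, hk, one_pow,
            ← pow_mul, mul_comm, pow_mul, hk', one_pow, map_one, inv_one, one_mul]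
        exact orderOf_eq_one_iff.1 (Nat.eq_one_of_dvd_coprimes (Nat.Coprime.pow_right (k + k') hs)
          (orderOf_map_dvd f s) (orderOf_dvd_of_pow_eq_one h2))
      rw [hft, hus, map_mul, hss, mul_one]
    have hQC : Qb' ≤ C := by
      refine le_inf (Subgroup.map_subtype_le _) fun b hb => ?_
      obtain ⟨a', ha', rfl⟩ := hQQ.ge hb
      rw [Subgroup.mem_centralizer_singleton_iff, ← hfu, ← map_mul, ← map_mul,
        Subgroup.mem_centralizer_iff.1 hcent a' ha']
    have h1 : q ^ (Nat.card K).factorization q ∣ Nat.card C := by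
      rw [← Qb.card_eq_multiplicity, ← Subgroup.card_map_of_injective K.subtype_injective]
      exact Subgroup.card_dvd_of_le hQC
    exact (hq.pow_dvd_iff_le_factorization Nat.card_pos.ne').1 h1
  exact (Subgroup.eq_of_le_of_card_ge (inf_le_left : C ≤ K) (Nat.le_of_dvd Nat.card_pos hdvd)).ge

/-- The gluing theorem. -/
theorem closed_of_extension [Finite G] (h : QHom π G) (K : Subgroup G) [K.Normal]
    (hK : Closed π K) (hQ : Closed π (G ⧸ K)) : Closed π G := by
  obtain ⟨L₀, hL₀n, hL₀π, hL₀i⟩ := closed_iff.1 hK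
  obtain ⟨T₀, hT₀n, hT₀π, hT₀i⟩ := closed_iff.1 hQ
  haveI := hL₀n
  haveI := hT₀n
  let L := L₀.map K.subtype
  haveI hLn : L.Normal := by
    haveI : L₀.Characteristic := by
      refine Subgroup.characteristic_iff_le_comap.2 fun φ x hx => ?_
      rw [Subgroup.mem_comap]
      show φ x ∈ L₀
      rw [← QuotientGroup.eq_one_iff]
      refine orderOf_eq_one_iff.1 (eq_one_of_pi (π := π) (fun q hq hd => ?_)
        (fun q hq hd => hL₀i q hq (hd.trans (_root_.orderOf_dvd_natCard _))))
      exact hL₀π q hq ((hd.trans ((orderOf_map_dvd (QuotientGroup.mk' L₀) (φ x)).trans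
        (MulEquiv.orderOf_eq φ x).dvd)).trans (L₀.orderOf_dvd_natCard hx))
    exact ⟨fun n hn g => by
      obtain ⟨w, hw, rfl⟩ := hn
      exact ⟨MulAut.conjNormal g w,
        (Subgroup.characteristic_iff_le_comap.1 this (MulAut.conjNormal g)) hw, rfl⟩⟩
  have hLπ : PiNum π (Nat.card L) := by
    rwa [Subgroup.card_map_of_injective K.subtype_injective]
  let f := QuotientGroup.mk' L
  have hf : Function.Surjective f := QuotientGroup.mk'_surjective L
  let Kb := K.map f
  haveI : Kb.Normal := Subgroup.Normal.map inferInstance f hf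
  have hKb : CoPiNum π (Nat.card Kb) := by
    intro q hq hd
    refine hL₀i q hq ?_
    have h1 : Nat.card Kb = (L₀.map K.subtype).relIndex K := by
      rw [← Subgroup.relIndex_bot_left, show (⊥ : Subgroup (G ⧸ L)) = L.map f by
        rw [eq_comm, Subgroup.map_eq_bot_iff, QuotientGroup.ker_mk'],
        Subgroup.relIndex_map_map, QuotientGroup.ker_mk', sup_idem,
        sup_eq_left.2 (Subgroup.map_subtype_le L₀ : L ≤ K)]
    rw [h1] at hd
    rwa [Subgroup.relIndex, Subgroup.subgroupOf, Subgroup.comap_map_eq_self_of_injective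
      K.subtype_injective] at hd
  let T := T₀.comap (QuotientGroup.mk' K)
  let Tb := T.map f
  haveI : Tb.Normal := Subgroup.Normal.map (hT₀n.comap _) f hf
  haveI : (Kb.subgroupOf Tb).Normal := inferInstance
  have hKT : Kb ≤ Tb := Subgroup.map_mono fun x hx => by
    show QuotientGroup.mk' K x ∈ T₀
    rw [QuotientGroup.mk'_apply, (QuotientGroup.eq_one_iff x).2 hx]
    exact one_mem _
  have hidx : PiNum π (Kb.subgroupOf Tb).index := by
    intro q hq hd
    refine hT₀π q hq ?_
    have hLK : L ≤ K := Subgroup.map_subtype_le L₀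
    have hKT' : K ≤ T := fun x hx => by
      show QuotientGroup.mk' K x ∈ T₀
      rw [QuotientGroup.mk'_apply, (QuotientGroup.eq_one_iff x).2 hx]
      exact one_mem _
    have h1 : Kb.relIndex Tb = Nat.card T₀ := by
      rw [Subgroup.relIndex_map_map, QuotientGroup.ker_mk', sup_eq_left.2 hLK,
        sup_eq_left.2 (hLK.trans hKT')]
      conv_lhs => rw [← QuotientGroup.ker_mk' K, ← MonoidHom.comap_bot]
      rw [Subgroup.relIndex_comap, Subgroup.map_comap_eq_self_of_surjective
        (QuotientGroup.mk'_surjective K), Subgroup.relIndex_bot_left]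
    exact h1 ▸ hd
  obtain ⟨W, hW⟩ := Subgroup.exists_right_complement'_of_coprime (N := Kb.subgroupOf Tb)
    ((coprime_of_pi hidx (fun q hq hd => hKb q hq
      (by rwa [Nat.card_congr (Subgroup.subgroupOfEquivOfLe hKT).toEquiv] at hd))).symm)
  have hWcard : PiNum π (Nat.card W) := hW.symm.index_eq_card ▸ hidx
  -- `W` centralises `Kb`
  have hWc : ∀ w ∈ W, (w : G ⧸ L) ∈ Subgroup.centralizer (Kb : Set (G ⧸ L)) := by
    intro w hw
    suffices hall : ∀ n : ℕ, ∀ y : G ⧸ L, orderOf y = n → PiNum π n →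
        y ∈ Subgroup.centralizer (Kb : Set (G ⧸ L)) from
      hall _ _ rfl fun q hq hd => hWcard q hq (hd.trans (by
        rw [Subgroup.orderOf_coe]; exact W.orderOf_dvd_natCard hw))
    intro n
    induction n using Nat.strong_induction_on with
    | _ n ih =>
      intro y hy hn
      by_cases hn1 : n = 1
      · rw [orderOf_eq_one_iff.1 (hy.trans hn1)]; exact one_mem _
      obtain ⟨p, hp, hpd⟩ := Nat.exists_prime_and_dvd hn1
      obtain ⟨u, s, hu, hs', hus, ⟨k, hk⟩, hs⟩ := exists_primary_split hp y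
      have hsn : orderOf s ∣ n := hy ▸ orderOf_dvd_of_mem_zpowers hs'
      have hslt : orderOf s < n := lt_of_le_of_ne (Nat.le_of_dvd (hy ▸ orderOf_pos y) hsn)
        fun he => hp.not_dvd_one (hs.gcd_eq_one ▸ Nat.dvd_gcd (he ▸ hpd) dvd_rfl)
      rw [hus]
      refine mul_mem ?_ (ih _ hslt s rfl fun q hq hd => hn q hq (hd.trans hsn))
      obtain ⟨g₀, rfl⟩ := hf u
      obtain ⟨a, b, ⟨i, hi⟩, -, hg, ⟨k₂, hk₂⟩, hb⟩ := exists_primary_split hp g₀
      have hfb : f b = 1 := by
        refine orderOf_eq_one_iff.1 (Nat.eq_one_of_dvd_coprimes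
          (Nat.Coprime.pow_right (k + k₂) hb) (orderOf_map_dvd f b) (orderOf_dvd_of_pow_eq_one ?_))
        have h1 : f b = (f a)⁻¹ * f g₀ := by rw [hg, map_mul]; group
        have hc : Commute (f a)⁻¹ (f g₀) := by
          rw [← hi, map_zpow]
          exact ((Commute.refl _).zpow_left i).inv_left
        have e1 : f a ^ p ^ (k + k₂) = 1 := by
          rw [← map_pow, pow_add, mul_comm, pow_mul, hk₂, one_pow, map_one]
        have e2 : f g₀ ^ p ^ (k + k₂) = 1 := by
          rw [pow_add, pow_mul, hk, one_pow]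
        rw [h1, hc.mul_pow, inv_pow, e1, e2, inv_one, mul_one]
      rw [hg, map_mul, hfb, mul_one]
      exact centralizes_section h L hLπ Kb hKb hp (hn p hp hpd) a ⟨k₂, hk₂⟩
  -- the complement is the set of `π`-elements of `Tb`
  have hTW : W ⊔ Kb.subgroupOf Tb = ⊤ := hW.symm.sup_eq_top
  haveI hWn : W.Normal := by
    refine Subgroup.normalizer_eq_top_iff.1 (top_le_iff.1 (hTW.symm.le.trans
      (sup_le Subgroup.le_normalizer fun x hx => Subgroup.centralizer_le_normalizer _ ?_)))
    rw [Subgroup.mem_centralizer_iff]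
    exact fun w hw => Subtype.ext (Subgroup.mem_centralizer_iff.1 (hWc w hw) _ hx).symm
  have hWi : CoPiNum π W.index := by
    intro q hq hd
    rw [hW.index_eq_card, Nat.card_congr (Subgroup.subgroupOfEquivOfLe hKT).toEquiv] at hd
    exact hKb q hq hd
  have hWset : ∀ y : Tb, PiNum π (orderOf y) → y ∈ W := fun y hy => by
    rw [← QuotientGroup.eq_one_iff]
    exact orderOf_eq_one_iff.1 (eq_one_of_pi (π := π)
      (fun q hq hd => hy q hq (hd.trans (orderOf_map_dvd (QuotientGroup.mk' W) y)))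
      (fun q hq hd => hWi q hq (hd.trans (_root_.orderOf_dvd_natCard _))))
  let C := W.map Tb.subtype
  haveI hCn : C.Normal := ⟨fun n hn g => by
    obtain ⟨w, hw, rfl⟩ := hn
    refine ⟨MulAut.conjNormal g w, hWset _ fun q hq hd => hWcard q hq ?_, rfl⟩
    rw [MulEquiv.orderOf_eq] at hd
    exact hd.trans (W.orderOf_dvd_natCard hw)⟩
  refine closed_iff.2 ⟨C.comap f, inferInstance, ?_, ?_⟩
  · have h1 : Nat.card (C.comap f) = Nat.card L * Nat.card C :=
      QuotientGroup.card_preimage_mk L (C : Set (G ⧸ L))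
    rw [h1]
    exact hLπ.mul (by rwa [Subgroup.card_map_of_injective Tb.subtype_injective])
  · rw [Subgroup.index_comap_of_surjective C hf, Subgroup.index_map_subtype]
    intro q hq hd
    rcases hq.dvd_mul.1 hd with h1 | h1
    · exact hWi q hq h1
    · refine hT₀i q hq (h1.trans ?_)
      rw [← Subgroup.index_comap_of_surjective T₀ (QuotientGroup.mk'_surjective K)]
      exact Subgroup.index_map_dvd _ hf

/-- `π`-closed and `π'`-closed by series. -/
theorem closed_of_series [Finite G] (h : QHom π G) {n : ℕ} (H : Fin (n + 1) → Subgroup G)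
    (h0 : H 0 = ⊥) (hl : H (Fin.last n) = ⊤) (hm : Monotone H) (hn : ∀ i, (H i).Normal)
    (hf : ∀ i : Fin n, PiNum π ((H i.castSucc).relIndex (H i.succ)) ∨
      CoPiNum π ((H i.castSucc).relIndex (H i.succ))) : Closed π G := by
  suffices key : ∀ (i : ℕ) (hi : i < n + 1), Closed π (H ⟨i, hi⟩) by
    obtain ⟨L, hL⟩ := key n (by omega)
    have ht : H ⟨n, by omega⟩ = ⊤ := hl
    refine ⟨L.map (H ⟨n, by omega⟩).subtype, fun x => ⟨?_, fun hx =>
      ⟨⟨x, ht.symm ▸ Subgroup.mem_top x⟩, (hL _).2 (by rwa [Subgroup.orderOf_mk]), rfl⟩⟩⟩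
    rintro ⟨y, hy, rfl⟩
    show PiNum π (orderOf (y : G))
    rw [Subgroup.orderOf_coe]
    exact (hL y).1 hy
  intro i
  induction i with
  | zero =>
    intro hi
    haveI : Subsingleton (H ⟨0, hi⟩) := by
      rw [show H ⟨0, hi⟩ = ⊥ from h0]; infer_instance
    refine ⟨⊤, fun x => ⟨fun _ q hq hd => ?_, fun _ => Subgroup.mem_top x⟩⟩
    rw [Subsingleton.elim x 1, orderOf_one] at hd
    exact absurd hd hq.not_dvd_one
  | succ i ih =>
    intro hi
    let j : Fin n := ⟨i, by omega⟩
    have hle : H j.castSucc ≤ H j.succ := hm (Fin.le_iff_val_le_val.2 (by simp [j]))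
    haveI := hn j.castSucc
    haveI : ((H j.castSucc).subgroupOf (H j.succ)).Normal := inferInstance
    have hK : Closed π ((H j.castSucc).subgroupOf (H j.succ)) := by
      obtain ⟨L, hL⟩ := ih (by omega)
      let e := Subgroup.subgroupOfEquivOfLe hle
      refine ⟨L.comap e.toMonoidHom, fun x => ?_⟩
      rw [Subgroup.mem_comap]
      show e x ∈ L ↔ _
      exact (hL (e x)).trans (by rw [MulEquiv.orderOf_eq])
    refine closed_of_extension (qhom_subgroup h _) ((H j.castSucc).subgroupOf (H j.succ)) hK ?_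
    rcases hf j with h1 | h1
    · exact ⟨⊤, fun x => ⟨fun _ q hq hd => h1 q hq (hd.trans (_root_.orderOf_dvd_natCard _)),
        fun _ => Subgroup.mem_top x⟩⟩
    · refine ⟨⊥, fun x => ⟨fun hx q hq hd => ?_, fun hx => ?_⟩⟩
      · rw [Subgroup.mem_bot.1 hx, orderOf_one] at hd
        exact absurd hd hq.not_dvd_one
      · exact Subgroup.mem_bot.2 (orderOf_eq_one_iff.1 (eq_one_of_pi hx
          fun q hq hd => h1 q hq (hd.trans (_root_.orderOf_dvd_natCard _))))

end Cfsg.Agent.Lib.Elem70.PiClosed
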