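import Mathlib
import Cfsg.Prelude.Def_RootSubgroups
import Cfsg.Agent.Lib.Involutions.BaerSuzuki
import Cfsg.Agent.Lib.PSolvable.Basic

/-!
# Root involutions: lines, components of the odd graph, isolated vertices

The basic fact is `line_lemma`: if `x` has product of odd order with `a` and `{a, e, a e}` is a line,
then `x` has product of odd order with `e` or with `a e`.
-/

set_option autoImplicit false
set_option linter.unusedSectionVars false

namespace Cfsg.Agent.Lib.Elem70.RootInvolutions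

open Relation

variable {G : Type*} [Group G] {D : Set G}

theorem mul_self_of_orderOf {d : G} (h : orderOf d = 2) : d * d = 1 := by
  rw [← sq, ← h, pow_orderOf_eq_one]

theorem inv_eq_self {d : G} (h : orderOf d = 2) : d⁻¹ = d :=
  inv_eq_of_mul_eq_one_right (mul_self_of_orderOf h)

theorem sq_comm_of_pow_four {x c : G} (hx : x * x = 1) (hc : c * c = 1) (h : (x * c) ^ 4 = 1) :
    (c * x) ^ 2 = (x * c) ^ 2 := by
  have e : c * x = (x * c)⁻¹ := by
    rw [mul_inv_rev, inv_eq_of_mul_eq_one_right hx, inv_eq_of_mul_eq_one_right hc]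
  rw [e, inv_pow]
  exact inv_eq_of_mul_eq_one_right (by rw [← pow_add]; exact h)

theorem inverting {γ δ : G} (hδ : Odd (orderOf δ)) (h : γ * δ ^ 2 * γ⁻¹ = (δ ^ 2)⁻¹) :
    γ * δ * γ⁻¹ = δ⁻¹ := by
  obtain ⟨m, hm⟩ := hδ
  have e : (δ ^ 2) ^ (m + 1) = δ := by
    rw [← pow_mul, show 2 * (m + 1) = orderOf δ + 1 by omega, pow_succ, pow_orderOf_eq_one, one_mul]
  calc γ * δ * γ⁻¹ = γ * (δ ^ 2) ^ (m + 1) * γ⁻¹ := by rw [e]
    _ = (γ * δ ^ 2 * γ⁻¹) ^ (m + 1) := conj_pow.symm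
    _ = δ⁻¹ := by rw [h, inv_pow, e]

theorem eq_one_of_mutual_inverting {γ δ : G} (hγ : Odd (orderOf γ)) (hδ : Odd (orderOf δ))
    (h1 : γ * δ * γ⁻¹ = δ⁻¹) (h2 : δ * γ * δ⁻¹ = γ⁻¹) : γ = 1 := by
  obtain ⟨m, hm⟩ := hδ
  have hc : Commute γ (δ ^ 2) := by
    show γ * δ ^ 2 = δ ^ 2 * γ
    have : δ ^ 2 * γ * (δ ^ 2)⁻¹ = γ := by
      calc δ ^ 2 * γ * (δ ^ 2)⁻¹ = δ * (δ * γ * δ⁻¹) * δ⁻¹ := by
              simp only [sq, mul_inv_rev, mul_assoc]
        _ = δ * γ⁻¹ * δ⁻¹ := by rw [h2]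
        _ = (δ * γ * δ⁻¹)⁻¹ := by group
        _ = γ := by rw [h2, inv_inv]
    calc γ * δ ^ 2 = δ ^ 2 * γ * (δ ^ 2)⁻¹ * δ ^ 2 := by rw [this]
      _ = δ ^ 2 * γ := by group
  have hcd : Commute γ δ := by
    have := hc.pow_right (m + 1)
    rwa [← pow_mul, show 2 * (m + 1) = orderOf δ + 1 by omega, pow_succ, pow_orderOf_eq_one,
      one_mul] at this
  have h3 : γ = γ⁻¹ := by
    rw [← hcd.eq] at h2
    simpa using h2
  obtain ⟨k, hk⟩ := hγ
  have hsq : γ ^ 2 = 1 := by rw [sq]; nth_rewrite 2 [h3]; exact mul_inv_cancel γ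
  have hd := orderOf_dvd_of_pow_eq_one hsq
  have : orderOf γ = 1 := by
    rcases (Nat.dvd_prime Nat.prime_two).1 hd with h | h
    · exact h
    · omega
  exact orderOf_eq_one_iff.1 this

/-- The group-theoretic core of the line lemma. -/
theorem eq_of_line {x e c : G} (hx : x * x = 1) (he : e * e = 1) (hc : c * c = 1)
    (hec : e * c = c * e) (hxe : (x * e) ^ 4 = 1) (hxc : (x * c) ^ 4 = 1)
    (hodd : Odd (orderOf (x * (e * c)))) : x = e * c := by
  set γ := x * (e * c) with hγ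
  set δ := e * γ * e⁻¹ with hδ
  have hxi := inv_eq_of_mul_eq_one_right hx
  have hei := inv_eq_of_mul_eq_one_right he
  have hci := inv_eq_of_mul_eq_one_right hc
  have ee : ∀ y, e * (e * y) = y := fun y => by rw [← mul_assoc, he, one_mul]
  have cc : ∀ y, c * (c * y) = y := fun y => by rw [← mul_assoc, hc, one_mul]
  have xx : ∀ y, x * (x * y) = y := fun y => by rw [← mul_assoc, hx, one_mul]
  have ce : ∀ y, c * (e * y) = e * (c * y) := fun y => by rw [← mul_assoc, ← hec, mul_assoc]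
  have hd2 : Odd (orderOf δ) := by
    rwa [hδ, show e * γ * e⁻¹ = MulAut.conj e γ from rfl, MulEquiv.orderOf_eq]
  have key : γ * δ ^ 2 * γ⁻¹ = (δ ^ 2)⁻¹ := by
    have l : γ * δ ^ 2 * γ⁻¹ = (x * c) ^ 2 * (e * x) ^ 2 := by
      simp only [hδ, hγ, sq, mul_inv_rev, hxi, hei, hci, mul_assoc]
      simp only [ee, cc, xx, ce, hec]
    have r : (δ ^ 2)⁻¹ = c * x * c * e * x * e := by
      simp only [hδ, hγ, sq, mul_inv_rev, hxi, hei, hci, mul_assoc]
      simp only [ee, cc, xx, ce, hec]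
    rw [l, r, ← sq_comm_of_pow_four hx hc hxc, sq_comm_of_pow_four hx he hxe]
    simp only [sq, mul_assoc]
    simp only [ee, cc, xx]
  have h1 := inverting hd2 key
  have h2 : δ * γ * δ⁻¹ = γ⁻¹ := by
    have e1 : e * δ * e⁻¹ = γ := by
      simp only [hδ, hei, mul_assoc, ee, he, mul_one]
    calc δ * γ * δ⁻¹ = e * γ * e⁻¹ * (e * δ * e⁻¹) * (e * γ * e⁻¹)⁻¹ := by rw [e1, hδ]
      _ = e * (γ * δ * γ⁻¹) * e⁻¹ := by group
      _ = (e * δ * e⁻¹)⁻¹ := by rw [h1]; group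
      _ = γ⁻¹ := by rw [e1]
  have h := eq_one_of_mutual_inverting hodd hd2 h1 h2
  rw [hγ, mul_eq_one_iff_eq_inv] at h
  rw [h, mul_inv_rev, hei, hci, hec]

variable (hD : Cfsg.IsRootInvolutionSet D)
include hD

theorem mul_self {d : G} (hd : d ∈ D) : d * d = 1 := mul_self_of_orderOf (hD.orderOf_eq d hd)

theorem inv_self {d : G} (hd : d ∈ D) : d⁻¹ = d := inv_eq_self (hD.orderOf_eq d hd)

theorem ne_one {d : G} (hd : d ∈ D) : d ≠ 1 := fun h => by
  have := hD.orderOf_eq d hd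
  rw [h, orderOf_one] at this
  omega

theorem pow_four_of_not_adj {a b : G} (ha : a ∈ D) (hb : b ∈ D) (h : ¬ Cfsg.OddAdj D a b) :
    (a * b) ^ 4 = 1 := by
  by_cases hab : a = b
  · rw [hab, mul_self hD hb, one_pow]
  rcases hD.pair a ha b hb with hc | ho | ⟨h4, -⟩
  · have h2 : (a * b) ^ 2 = 1 := by
      rw [(show Commute a b from hc).mul_pow, sq, sq, mul_self hD ha, mul_self hD hb, one_mul]
    rw [show 4 = 2 * 2 from rfl, pow_mul, h2, one_pow]
  · exact absurd ⟨ha, hb, hab, ho⟩ h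
  · rw [← h4, pow_orderOf_eq_one]

theorem adj_symm {a b : G} (h : Cfsg.OddAdj D a b) : Cfsg.OddAdj D b a := by
  obtain ⟨ha, hb, hne, ho⟩ := h
  refine ⟨hb, ha, hne.symm, ?_⟩
  have e : b * a = (a * b)⁻¹ := by rw [mul_inv_rev, inv_self hD ha, inv_self hD hb]
  rwa [e, orderOf_inv]

theorem reach_symm {a b : G} (h : ReflTransGen (Cfsg.OddAdj D) a b) :
    ReflTransGen (Cfsg.OddAdj D) b a := by
  induction h with
  | refl => exact .refl
  | tail _ h ih => exact ReflTransGen.head (adj_symm hD h) ih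

theorem component_eq {a b : G} (h : ReflTransGen (Cfsg.OddAdj D) a b) :
    Cfsg.elemComponentOf (Cfsg.OddAdj D) D a = Cfsg.elemComponentOf (Cfsg.OddAdj D) D b :=
  Set.ext fun _ => ⟨fun ⟨hc, hr⟩ => ⟨hc, (reach_symm hD h).trans hr⟩,
    fun ⟨hc, hr⟩ => ⟨hc, h.trans hr⟩⟩

/-- The line lemma. -/
theorem line_lemma {a e x : G} (ha : a ∈ D) (he : e ∈ Cfsg.productPartners D a)
    (hx : Cfsg.OddAdj D x a) : Cfsg.OddAdj D x e ∨ Cfsg.OddAdj D x (e * a) := by
  obtain ⟨⟨heD, hea, -⟩, hcD⟩ := he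
  obtain ⟨hxD, -, hne, ho⟩ := hx
  by_contra hcon
  rw [not_or] at hcon
  have hec : e * (e * a) = (e * a) * e := by
    rw [hea, mul_assoc]
    calc e * (a * e) = (e * a) * e := by group
      _ = a * (e * e) := by rw [hea, mul_assoc]
  have heq : e * (e * a) = a := by rw [← mul_assoc, mul_self hD heD, one_mul]
  refine hne ?_
  rw [← heq]
  refine eq_of_line (mul_self hD hxD) (mul_self hD heD) (mul_self hD hcD) hec
    (pow_four_of_not_adj hD hxD heD hcon.1) (pow_four_of_not_adj hD hxD hcD hcon.2) ?_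
  rwa [heq]

theorem productPartners_symm {a e : G} (ha : a ∈ D) (he : e ∈ Cfsg.productPartners D a) :
    a ∈ Cfsg.productPartners D e := by
  obtain ⟨⟨_, hea, hne⟩, hcD⟩ := he
  exact ⟨⟨ha, hea.symm, hne.symm⟩, hea ▸ hcD⟩

/-- A product partner of a non-isolated member is in its component or isolated. -/
theorem productPartners_subset {a e : G} (ha : a ∈ D) (hx : ∃ x, Cfsg.OddAdj D x a)
    (he : e ∈ Cfsg.productPartners D a) :
    e ∈ Cfsg.elemComponentOf (Cfsg.OddAdj D) D a ∨ Cfsg.IsIsolatedElem (Cfsg.OddAdj D) D e := by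
  have heD : e ∈ D := he.1.1
  by_cases hy : ∃ y, Cfsg.OddAdj D y e
  · left
    obtain ⟨x, hx⟩ := hx
    obtain ⟨y, hy⟩ := hy
    refine ⟨heD, ?_⟩
    rcases line_lemma hD ha he hx with h1 | h1
    · exact (ReflTransGen.single (adj_symm hD hx)).tail h1
    rcases line_lemma hD heD (productPartners_symm hD ha he) hy with h2 | h2
    · exact (ReflTransGen.single (adj_symm hD h2)).tail hy
    · rw [← show e * a = a * e from he.1.2.1] at h2
      exact (((ReflTransGen.single (adj_symm hD hx)).tail h1).tail (adj_symm hD h2)).tail hy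
  · exact Or.inr ⟨heD, fun b => ⟨fun h => hy ⟨b, adj_symm hD h⟩, fun h => hy ⟨b, h⟩⟩⟩

/-- For two members with product of order four, the square is a product partner of the first. -/
theorem sq_mem_productPartners {a b : G} (ha : a ∈ D) (hb : b ∈ D) (h4 : orderOf (a * b) = 4)
    (hc : (a * b) ^ 2 ∈ D) : (a * b) ^ 2 ∈ Cfsg.productPartners D a := by
  have hp : (a * b) ^ 4 = 1 := by rw [← h4, pow_orderOf_eq_one]
  have hs := sq_comm_of_pow_four (mul_self hD ha) (mul_self hD hb) hp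
  have e1 : (a * b) ^ 2 * a = a * (b * a) ^ 2 := by simp only [sq, mul_assoc]
  rw [hs] at e1
  have hbab : b * a * b ∈ D := by
    have := hD.conj_mem a ha b
    rwa [inv_self hD hb] at this
  have haa := mul_self hD ha
  have e2 : a * (a * b) ^ 2 = b * a * b := by
    simp only [sq, ← mul_assoc]
    rw [haa, one_mul]
  refine ⟨⟨hc, e1, fun h => ?_⟩, by rw [e1, e2]; exact hbab⟩
  rw [h, haa] at e2
  have : b * (b * a * b) * b = a := by
    simp only [← mul_assoc]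
    rw [mul_self hD hb, one_mul, mul_assoc, mul_self hD hb, mul_one]
  rw [← e2, mul_one, mul_self hD hb] at this
  exact ne_one hD ha this.symm

theorem isolated_iff {d : G} :
    Cfsg.IsIsolatedElem (Cfsg.OddAdj D) D d ↔ d ∈ D ∧ ∀ b, ¬ Cfsg.OddAdj D d b :=
  ⟨fun h => ⟨h.1, fun b => (h.2 b).1⟩,
    fun h => ⟨h.1, fun b => ⟨h.2 b, fun hb => h.2 b (adj_symm hD hb)⟩⟩⟩

theorem isolated_conj {w : G} (hw : Cfsg.IsIsolatedElem (Cfsg.OddAdj D) D w) (g : G) :
    Cfsg.IsIsolatedElem (Cfsg.OddAdj D) D (g * w * g⁻¹) := by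
  rw [isolated_iff hD] at hw ⊢
  refine ⟨hD.conj_mem w hw.1 g, fun b ⟨_, hb, hne, ho⟩ => hw.2 (g⁻¹ * b * g) ⟨hw.1, ?_, ?_, ?_⟩⟩
  · simpa using hD.conj_mem b hb g⁻¹
  · intro h
    apply hne
    rw [h]; group
  · have e : g * w * g⁻¹ * b = MulAut.conj g (w * (g⁻¹ * b * g)) := by
      rw [MulAut.conj_apply]; group
    rwa [e, MulEquiv.orderOf_eq] at ho

variable [Finite G]

/-- An isolated member lies in `O₂`. -/
theorem isolated_mem_pCore {w : G} (hw : Cfsg.IsIsolatedElem (Cfsg.OddAdj D) D w) :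
    w ∈ Cfsg.pCore 2 G := by
  rw [isolated_iff hD] at hw
  by_contra hn
  obtain ⟨h, hh1, ⟨m, hm⟩, hinv⟩ := Lib.Involutions.BaerSuzuki.exists_odd_inverted w (hD.orderOf_eq w hw.1)
    fun N hN hN2 hwN => hn ((Lib.PSolvable.le_pCore hN hN2) hwN)
  have hk : (h ^ (m + 1)) ^ 2 = h := by
    rw [← pow_mul, show (m + 1) * 2 = orderOf h + 1 by omega, pow_succ, pow_orderOf_eq_one, one_mul]
  have hki : w * h ^ (m + 1) * w⁻¹ = (h ^ (m + 1))⁻¹ := by rw [← conj_pow, hinv, inv_pow]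
  set k := h ^ (m + 1)
  have hconj : k * w * k⁻¹ = h * w := by
    calc k * w * k⁻¹ = k * (w * k⁻¹ * w⁻¹) * w := by group
      _ = k * (w * k * w⁻¹)⁻¹ * w := by group
      _ = k ^ 2 * w := by rw [hki, inv_inv, sq]
      _ = h * w := by rw [hk]
  have hmem : h * w ∈ D := hconj ▸ hD.conj_mem w hw.1 k
  refine hw.2 (h * w) ⟨hw.1, hmem, fun e => hh1 ?_, ?_⟩
  · nth_rewrite 1 [← one_mul w] at e
    exact (mul_right_cancel e).symm
  · have e : w * (h * w) = h⁻¹ := by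
      rw [← hinv, inv_self hD hw.1, mul_assoc]
    rw [e, orderOf_inv]
    exact ⟨m, hm⟩

/-- A member in a normal `2`-subgroup is isolated. -/
theorem isolated_of_mem_normal {Q : Subgroup G} [Q.Normal] (hQ : IsPGroup 2 Q) {d : G} (hd : d ∈ D)
    (hdQ : d ∈ Q) : Cfsg.IsIsolatedElem (Cfsg.OddAdj D) D d := by
  rw [isolated_iff hD]
  refine ⟨hd, fun e ⟨_, he, hne, ho⟩ => hne ?_⟩
  have h2 : (d * e) ^ 2 ∈ Q := by
    have : (d * e) ^ 2 = d * (e * d * e⁻¹) := by
      rw [sq, inv_self hD he]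
      group
    rw [this]
    exact Q.mul_mem hdQ ((inferInstance : Q.Normal).conj_mem d hdQ e)
  obtain ⟨i, hi⟩ := hQ ⟨_, h2⟩
  have hcop : Nat.Coprime (orderOf (d * e)) 2 := Nat.coprime_two_right.mpr ho
  have h3 : orderOf (d * e) ∣ 2 ^ i := by
    rw [← hcop.orderOf_pow]
    exact orderOf_dvd_of_pow_eq_one (by simpa using congrArg Subtype.val hi)
  have h4 := Nat.eq_one_of_dvd_coprimes (hcop.pow_right i) dvd_rfl h3
  rw [orderOf_eq_one_iff, mul_eq_one_iff_eq_inv, inv_self hD he] at h4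
  exact h4

end Cfsg.Agent.Lib.Elem70.RootInvolutions
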